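import Groth.Agent.Fano.K554.PfCurve
import Groth.Agent.Fano.K255.PfDef
import Groth.Agent.Lefpen.H704.Scale

/-!
# Smooth Pfaffian curves are elliptic quintics (node G2 of S16528)

`of_goodE` (exact statement of `K255.PlanE`); `cE_eq`: `cE M` is the ideal sheaf of the signed Pfaffians of a
skew `5 × 5` matrix; `mat5`, `alt5`.
-/

set_option autoImplicit false

universe u

open CategoryTheory CategoryTheory.Limits AlgebraicGeometry TopologicalSpace Opposite

namespace K554.PfGoodE

open LefPen K554.PfAlg K554.PfSheaf K554.PfRes K554.PfCoh K554.PfIdeal K554.PfCurve K715.Gens K715.Res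
open Groth.Agent Groth.Agent.Lefpen.H718.Chart K33.CIEuler
open Groth.Agent.Fano.K714.Rat Groth.Agent.Fano.K714.Quart Groth.Agent.Fano.K715.Quint K255.Pf K419.QuartGood

variable {k : Type u} [Field k]

/-- The `5 × 5` block. -/
noncomputable def mat5 (M : DataE k) (a b : Fin 5) : Form 4 k 1 := lin (M a.castSucc b.castSucc)

theorem lin_neg (v : Fin 5 → k) : lin (-v) = -lin v := by
  unfold lin
  rw [← Finset.sum_neg_distrib]
  refine Finset.sum_congr rfl fun i _ => ?_
  rw [Pi.neg_apply]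
  exact neg_smul (v i) (⟨MvPolynomial.X i, LefPen.X_mem 4 k i⟩ : LefPen.Form 4 k 1)

theorem alt5 [CharZero k] {M : DataE k} (hM : ∀ i j, M i j = - M j i) : Alt5 (fun a b => (mat5 M a b).1) where
  diag i := by
    have h1 : M i.castSucc i.castSucc = 0 := by
      have h2 := hM i.castSucc i.castSucc
      funext l
      have h3 := congrFun h2 l
      simp only [Pi.neg_apply] at h3
      have h4 : (2 : k) * M i.castSucc i.castSucc l = 0 := by linear_combination h3
      simpa using h4
    change (lin (M i.castSucc i.castSucc)).1 = 0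
    rw [h1]
    simp [lin]
  skew i j := by
    change (lin (M j.castSucc i.castSucc)).1 = -(lin (M i.castSucc j.castSucc)).1
    rw [hM, lin_neg]
    rfl

theorem pf_eq (M : DataE k) (j : Fin 5) : pf (mat5 M) j = qE M j ∨ pf (mat5 M) j = -qE M j := by
  fin_cases j
  · exact Or.inl rfl
  · exact Or.inr rfl
  · exact Or.inl rfl
  · exact Or.inr rfl
  · exact Or.inl rfl

theorem hypIdeal_neg {d : ℕ} (G : Form 4 k d) : hypIdeal (-G) = hypIdeal G := by
  have h1 := Lefpen.H704.Scale.hypIdeal_smul (neg_ne_zero.mpr (one_ne_zero : (1 : k) ≠ 0)) G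
  have h2 : (-1 : k) • G = -G := neg_one_smul k G
  rwa [h2] at h1

theorem cE_eq (M : DataE k) : cE M = PI (mat5 M) := by
  unfold cE PI ciIdeal
  refine iSup_congr fun j => ?_
  rcases pf_eq M j with h | h
  · rw [h]
  · rw [h, hypIdeal_neg]

theorem hyp_le (f : Form 4 k 3) (M : DataE k) (hM : M ∈ PP f.1) : hypIdeal f ≤ cE M := by
  have h1 : cE M = ciIdeal (qE M) := rfl
  rw [h1]
  apply K419.CoreCI.hypIdeal_le_ciIdeal
  rw [← hM.2, pf6]
  have hmem : ∀ j, (qE M j).1 ∈ Ideal.span (Set.range fun j => (qE M j).1) := fun j => Ideal.subset_span ⟨j, rfl⟩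
  exact add_mem (sub_mem (add_mem (sub_mem (Ideal.mul_mem_left _ _ (hmem 0)) (Ideal.mul_mem_left _ _ (hmem 1)))
    (Ideal.mul_mem_left _ _ (hmem 2))) (Ideal.mul_mem_left _ _ (hmem 3))) (Ideal.mul_mem_left _ _ (hmem 4))

variable [CharZero k]

theorem nonDeg (M : DataE k) (hM : ∀ i j, M i j = - M j i) (hdim : topologicalKrullDim ↥(cE M).subscheme ≤ 1) :
    NonDeg (cE M) := by
  rw [cE_eq] at hdim ⊢
  exact fun l hl => not_le (alt5 hM) hdim l hl

theorem isIntegral_of_goodE (M : DataE k) (hM : ∀ i j, M i j = - M j i) (hgood : GoodE M) :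
    IsIntegral (cE M).subscheme := by
  have hne : Nonempty ↥(cE M).subscheme := by
    by_contra hcon
    rw [not_nonempty_iff] at hcon
    have h1 := hgood.2
    have h2 : IsEmpty (IrreducibleCloseds ↥(cE M).subscheme) :=
      ⟨fun Z => hcon.elim Z.isIrreducible.nonempty.some⟩
    rw [topologicalKrullDim, Order.krullDim_eq_bot] at h1
    exact absurd h1 (by decide)
  have h1 : ConnectedSpace ↥(cE M).subscheme := by
    have hd : topologicalKrullDim ↥(cE M).subscheme ≤ 1 := hgood.2.le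
    rw [cE_eq] at hd hne ⊢
    exact connected (alt5 hM) hd hne
  have := hgood.1
  exact K532.Base.isIntegral_of_connected ((cE M).subschemeι ≫ CohB1.ProjSpace.toSpec 4 k)

theorem of_goodE [IsAlgClosed k] (f : LefPen.Form 4 k 3) (M : DataE k) (hM : M ∈ PP f.1) (hgood : GoodE M) :
    NonDeg (cE M) ∧
    ∃ (i : (cE M).subscheme ⟶ Xf f), i ≫ emb f = (cE M).subschemeι ∧ IsClosedImmersion i ∧
      i.ker = (cE M).comap (emb f) ∧ IsIntegral (cE M).subscheme ∧ IsProper (i ≫ ps f) ∧
      @Curv2.genus k _ (cE M).subscheme ⟨i ≫ ps f⟩ = 1 ∧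
      @Curv2.deg k _ (cE M).subscheme ⟨i ≫ ps f⟩ ((Scheme.Modules.pullback (i ≫ emb f)).obj
        (Twist.twistProjSpace 4 k 1)) 1 = 5 := by
  refine ⟨nonDeg M hM.1 hgood.2.le, ?_⟩
  have hle := hyp_le f M hM
  obtain ⟨i, hi⟩ : ∃ i : (cE M).subscheme ⟶ Xf f, i ≫ emb f = (cE M).subschemeι :=
    ⟨Scheme.IdealSheafData.inclusion hle, Scheme.IdealSheafData.inclusion_subschemeι hle⟩
  have hip : (cE M).subschemeι ≫ CohB1.ProjSpace.toSpec 4 k = i ≫ ps f := by
    change _ = i ≫ emb f ≫ _
    rw [← Category.assoc, hi]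
  have hint := isIntegral_of_goodE M hM.1 hgood
  have hpr : IsProper ((cE M).subschemeι ≫ CohB1.ProjSpace.toSpec 4 k) := by
    have : IsProper (CohB1.ProjSpace.toSpec 4 k) := inferInstance
    infer_instance
  have hcl' : IsClosedImmersion (i ≫ emb f) := by rw [hi]; infer_instance
  have hcl : IsClosedImmersion i := IsClosedImmersion.of_comp i (emb f)
  have hpr' : IsProper (i ≫ ps f) := by rw [← hip]; exact hpr
  have h0 : E (cE M).subschemeι 0 = 0 := by
    have hd : topologicalKrullDim ↥(cE M).subscheme ≤ 1 := hgood.2.le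
    rw [cE_eq] at hd ⊢
    exact E_zero (alt5 hM.1) hd
  have h1 : E (cE M).subschemeι 1 = 5 := by
    have hd : topologicalKrullDim ↥(cE M).subscheme ≤ 1 := hgood.2.le
    rw [cE_eq] at hd ⊢
    exact E_one (alt5 hM.1) hd
  refine ⟨i, hi, hcl, ?_, hint, hpr', ?_, ?_⟩
  · have h2 := Groth.Agent.Fcompl.H545.SysBasic.comap_ker_comp i (emb f)
    rw [hi, Scheme.IdealSheafData.ker_subschemeι] at h2
    exact h2.symm
  · have h2 := genus_of_E (cE M).subschemeι (i ≫ ps f) hip hpr' hgood.2
    omega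
  · rw [deg_eq_E (i ≫ emb f) (i ≫ ps f) (by rw [Category.assoc]), hi]
    omega

end K554.PfGoodE
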