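import Groth.Agent.Fano.K554.SatLine
import Groth.Agent.Fano.K560.EllReg
import Groth.Agent.Fano.K419.ThetaMap
import Groth.Agent.VBCurve.K708.InvH0
import Groth.Agent.Variety.K428.Reg
import Groth.Agent.Fano.K255.PfDef

/-!
# The conormal sheaf of a degenerate elliptic quintic on a cubic threefold has no sections

`conormal_deg_of`: the statement `K255.PlanE.conormal_deg` from the bound `∑ δ_p ≤ 4` for the vanishing orders of the
section of the conormal sheaf given by the hyperplane (hypothesis `VanBound`).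
-/

set_option autoImplicit false
set_option linter.unusedSectionVars false
universe u

open CategoryTheory CategoryTheory.Limits AlgebraicGeometry TopologicalSpace Opposite

namespace K554.ConDeg

open LefPen K715.Geo K715.Gens K715.Res K560.FormMaps
open Groth.Agent Groth.Agent.Lefpen.H705.HypIdeal Groth.Agent.Lefpen.H705.ChartPoly
open Groth.Agent.Fdesc.LocGen Groth.Agent.Fano.K714.Rat
open K255.Pf Groth.Agent.CycB.StalkExact

variable {k : Type u} [Field k] [IsAlgClosed k]

/-- The section of the conormal sheaf of `i` given by the linear form `l` (in the local coordinates of the charts)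
lies at `p` in `m_p ^ d` times the conormal sheaf. -/
def VanAt {C : Scheme.{u}} (f : LefPen.Form 4 k 3) (i : C ⟶ Xf f) (l : LefPen.Form 4 k 1) (p : C) (d : ℕ) : Prop :=
  ∀ (m : Fin 5) (hp : p ∈ (i ≫ emb f) ⁻¹ᵁ chart 4 k m) (c : Γ(ClSub.idealMod i.ker, (emb f) ⁻¹ᵁ chart 4 k m)),
    (ClSub.idealModι i.ker).app ((emb f) ⁻¹ᵁ chart 4 k m) c = (emb f).app (chart 4 k m) (rho m le_rfl l.1) →
    (Omega.conormal i).presheaf.germ ((i ≫ emb f) ⁻¹ᵁ chart 4 k m) p hp (pullSec i c) ∈
      (IsLocalRing.maximalIdeal (C.presheaf.stalk p)) ^ d •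
        (⊤ : Submodule (C.presheaf.stalk p) ((Omega.conormal i).presheaf.stalk p))

/-- The bound for the sum of the vanishing orders. -/
def VanBound {C : Scheme.{u}} (f : LefPen.Form 4 k 3) (i : C ⟶ Xf f) (l : LefPen.Form 4 k 1) : Prop :=
  ∀ (B : Finset C) (δ : C → ℕ), (∀ p ∈ B, IsClosed ({p} : Set C)) → (∀ p ∈ B, VanAt f i l p (δ p)) →
    ∑ p ∈ B, δ p ≤ 4

theorem conormal_deg_of (f : LefPen.Form 4 k 3) (hf : f ≠ 0) [Smooth (ps f)]
    (C : Scheme.{u}) (p : C ⟶ Spec (CommRingCat.of k)) (i : C ⟶ Xf f) (hcl : IsClosedImmersion i)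
    (hip : i ≫ ps f = p) (hsm : Smooth p) (hpr : IsProper p) (hint : IsIntegral C)
    (hdim : topologicalKrullDim C = 1) (hg : @Curv2.genus k _ C ⟨p⟩ = 1)
    (hdeg : @Curv2.deg k _ C ⟨p⟩ ((Scheme.Modules.pullback (i ≫ emb f)).obj
      (Twist.twistProjSpace 4 k 1)) 1 = 5)
    (l : LefPen.Form 4 k 1) (hl : hypIdeal l ≤ (i ≫ emb f).ker) (hW : VanBound f i l) :
    Subsingleton (Coh.HH C (Omega.conormal i) 0) := by
  let : C.Over (Spec (CommRingCat.of k)) := ⟨p⟩
  have hs' : Smooth (C ↘ Spec (CommRingCat.of k)) := hsm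
  have hp' : IsProper (C ↘ Spec (CommRingCat.of k)) := hpr
  have hc : GeometricallyConnected (C ↘ Spec (CommRingCat.of k)) :=
    Fdesc.GeomAlgClosed.geometricallyConnected_of_connectedSpace _
  have hs1 := K560.EllReg.relDim_one (k := k) hdim
  obtain ⟨ω⟩ := S7831.result k C hdim hg
  have Cv : K707.Base.Crv k C := K707.Base.Crv.of_smooth hdim
  have hi : i ≫ ps f = C ↘ Spec (CommRingCat.of k) := hip
  have hE := K560.EllReg.locFree_conormal f hf hdim i hi
  have hdE := K560.EllReg.deg_conormal f hf hdim i hi ⟨ω⟩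
  obtain ⟨hclp, hncl, -⟩ := K321.LatSum.points k C hdim
  obtain ⟨lam, hlam⟩ := K419.ThetaMap.exists_lam i (emb f) l hl
  -- the stalks of `lam`
  have hst : ∀ (x : C) (d : ℕ), (∀ z : ((Scheme.Modules.pullback (i ≫ emb f)).obj
      (OO 4 k (-((1 : ℕ) : ℤ)))).presheaf.stalk x, stalkLin lam x z ∈
        (IsLocalRing.maximalIdeal (C.presheaf.stalk x)) ^ d •
          (⊤ : Submodule (C.presheaf.stalk x) ((Omega.conormal i).presheaf.stalk x))) → VanAt f i l x d := by
    intro x d h m hp c hc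
    have h1 := h (((Scheme.Modules.pullback (i ≫ emb f)).obj (OO 4 k (-((1 : ℕ) : ℤ)))).presheaf.germ
      ((i ≫ emb f) ⁻¹ᵁ chart 4 k m) x hp (pullSec (i ≫ emb f) (eg m (-((1 : ℕ) : ℤ)) le_rfl)))
    rw [stalkLin_germ, hlam m c hc] at h1
    exact h1
  have hne : lam ≠ 0 := by
    rintro rfl
    obtain ⟨x, hx⟩ : ∃ x : C, IsClosed ({x} : Set C) := by
      by_contra hcon
      push Not at hcon
      have h1 : ∀ x : C, x = genericPoint C := fun x => by
        by_contra hx
        exact hcon x (hclp x hx)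
      apply hncl
      have h2 : ({genericPoint C} : Set C) = Set.univ := by
        ext x
        simp [h1 x]
      rw [h2]
      exact isClosed_univ
    have h2 := hW {x} (fun _ => 5) (fun y hy => by rw [Finset.mem_singleton.mp hy]; exact hx)
      (fun y _ => hst y 5 fun z => by
        have h3 : stalkLin (0 : (Scheme.Modules.pullback (i ≫ emb f)).obj (OO 4 k (-((1 : ℕ) : ℤ))) ⟶
            Omega.conormal i) y z = 0 := by
          have := (stalkFun (X := C) y).map_zero ((Scheme.Modules.pullback (i ≫ emb f)).obj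
            (OO 4 k (-((1 : ℕ) : ℤ)))) (Omega.conormal i)
          change ((stalkFun y).map (0 : _ ⟶ Omega.conormal i)).hom z = 0
          rw [this]
          rfl
        rw [h3]
        exact Submodule.zero_mem _)
    simp at h2
  have hL : PicF.IsInvertible ((Scheme.Modules.pullback (i ≫ emb f)).obj (OO 4 k (-((1 : ℕ) : ℤ)))) :=
    Fdesc.LocGen.isInvertible_pullback (i ≫ emb f) (Ega3B.ProjTwist.isInvertible_twistProjSpace 4 k _)
  obtain ⟨A, Q, j, q, w, a, B, δ, hS, hA, hQ, haj, hBc, hB, e1, e2⟩ := SatLine.exists_sat Cv hL hE lam hne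
  have h4 := hW B δ hBc fun x hx => hst x (δ x) (hB x hx)
  have e3 := Coherent.K47.LinkEuler.deg_twist k C hdim.le (i ≫ emb f) (-((1 : ℕ) : ℤ))
  have hdeg' : Curv2.deg k C ((Scheme.Modules.pullback (i ≫ emb f)).obj (Twist.twistProjSpace 4 k 1)) 1 = 5 := hdeg
  rw [hdeg'] at e3 hdE
  have h5 : (∑ p ∈ B, (δ p : ℤ)) ≤ 4 := by exact_mod_cast h4
  have hA1 := K704.Sat.rank_of_isInvertible hA
  have hQ1 := K704.Sat.rank_of_isInvertible hQ
  have h6 : Subsingleton (Coh.HH C A 0) := K708.InvH0.subsingleton_h0_of_neg Cv hA (by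
    rw [K707.Deg.dg_of_rank k hA1, e1]
    change Curv2.deg k C ((Scheme.Modules.pullback (i ≫ emb f)).obj (Twist.twistProjSpace 4 k _)) 1 + _ < 0
    rw [e3]
    push_cast
    linarith)
  have h7 : Subsingleton (Coh.HH C Q 0) := K708.InvH0.subsingleton_h0_of_neg Cv hQ (by
    rw [K707.Deg.dg_of_rank k hQ1]
    have h8 : 0 ≤ ∑ p ∈ B, (δ p : ℤ) := Finset.sum_nonneg fun _ _ => Int.natCast_nonneg _
    have h9 : Curv2.deg k C A 1 = -5 + ∑ p ∈ B, (δ p : ℤ) := by
      rw [e1]
      change Curv2.deg k C ((Scheme.Modules.pullback (i ≫ emb f)).obj (Twist.twistProjSpace 4 k _)) 1 + _ = _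
      rw [e3]
      push_cast
      ring
    linarith)
  exact K428.Reg.mid hS 0 h6 h7

/-- `K255.PlanE.conormal_deg` from `VanBound`. -/
theorem conormal_deg (f : LefPen.Form 4 k 3) (hf : f ≠ 0) [Smooth (ps f)]
    (C : Scheme.{u}) (p : C ⟶ Spec (CommRingCat.of k)) (i : C ⟶ Xf f) (hcl : IsClosedImmersion i)
    (hip : i ≫ ps f = p) (hsm : Smooth p) (hpr : IsProper p) (hint : IsIntegral C)
    (hdim : topologicalKrullDim C = 1) (hg : @Curv2.genus k _ C ⟨p⟩ = 1)
    (hdeg : @Curv2.deg k _ C ⟨p⟩ ((Scheme.Modules.pullback (i ≫ emb f)).obj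
      (Twist.twistProjSpace 4 k 1)) 1 = 5) (hd : ¬ NonDeg (i ≫ emb f).ker)
    (hW : ∀ l : LefPen.Form 4 k 1, l ≠ 0 → hypIdeal l ≤ (i ≫ emb f).ker → VanBound f i l) :
    Subsingleton (Coh.HH C (Omega.conormal i) 0) := by
  unfold NonDeg at hd
  push Not at hd
  obtain ⟨l, hl0, hl⟩ := hd
  exact conormal_deg_of f hf C p i hcl hip hsm hpr hint hdim hg hdeg l hl (hW l hl0 hl)

end K554.ConDeg
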