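import Groth.Agent.S2065
import Groth.Agent.Lefpen.H718.ConeCM

/-!
# The complex of Buchsbaum and Eisenbud of a `5 × 5` alternating matrix

`pv M i`: the signed `4 × 4` Pfaffians; `M p = 0`; the complex `0 → R → R⁵ → R⁵ → R` is exact over a regular local
ring if the ideal of the Pfaffians is the unit ideal or has height at least three (`exact_local`), and over a
Noetherian ring if this holds at the maximal ideals (`exact_ring`).
-/

set_option autoImplicit false

universe u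

open Matrix

namespace K554.PfAlg

open Groth.Agent.CalgB.Minors

section

variable {R : Type*} [CommRing R]

/-- `M` is alternating. -/
structure Alt5 (M : Fin 5 → Fin 5 → R) : Prop where
  diag : ∀ i, M i i = 0
  skew : ∀ i j, M j i = -M i j

/-- The signed `4 × 4` Pfaffians. -/
def pv (M : Fin 5 → Fin 5 → R) : Fin 5 → R :=
  ![M 1 2 * M 3 4 - M 1 3 * M 2 4 + M 1 4 * M 2 3,
    -(M 0 2 * M 3 4 - M 0 3 * M 2 4 + M 0 4 * M 2 3),
    M 0 1 * M 3 4 - M 0 3 * M 1 4 + M 0 4 * M 1 3,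
    -(M 0 1 * M 2 4 - M 0 2 * M 1 4 + M 0 4 * M 1 2),
    M 0 1 * M 2 3 - M 0 2 * M 1 3 + M 0 3 * M 1 2]

theorem map_pv {S : Type*} [CommRing S] (f : R →+* S) (M : Fin 5 → Fin 5 → R) (i : Fin 5) :
    pv (fun a b => f (M a b)) i = f (pv M i) := by
  fin_cases i <;> simp [pv]

theorem Alt5.map {S : Type*} [CommRing S] (f : R →+* S) {M : Fin 5 → Fin 5 → R} (h : Alt5 M) :
    Alt5 (fun a b => f (M a b)) where
  diag i := by rw [h.diag, map_zero]
  skew i j := by rw [h.skew i j, map_neg]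

variable {M : Fin 5 → Fin 5 → R} (h : Alt5 M)

include h

theorem Alt5.eqs : M 0 0 = 0 ∧ M 1 1 = 0 ∧ M 2 2 = 0 ∧ M 3 3 = 0 ∧ M 4 4 = 0 ∧ M 1 0 = -M 0 1 ∧ M 2 0 = -M 0 2 ∧
    M 3 0 = -M 0 3 ∧ M 4 0 = -M 0 4 ∧ M 2 1 = -M 1 2 ∧ M 3 1 = -M 1 3 ∧ M 4 1 = -M 1 4 ∧ M 3 2 = -M 2 3 ∧
    M 4 2 = -M 2 4 ∧ M 4 3 = -M 3 4 :=
  ⟨h.diag _, h.diag _, h.diag _, h.diag _, h.diag _, h.skew _ _, h.skew _ _, h.skew _ _, h.skew _ _, h.skew _ _,
    h.skew _ _, h.skew _ _, h.skew _ _, h.skew _ _, h.skew _ _⟩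

theorem sum_mul_pv (i : Fin 5) : ∑ j, M i j * pv M j = 0 := by
  obtain ⟨h0, h1, h2, h3, h4, h10, h20, h30, h40, h21, h31, h41, h32, h42, h43⟩ := h.eqs
  fin_cases i <;> simp [Fin.sum_univ_succ, pv, h0, h1, h2, h3, h4, h10, h20, h30, h40, h21, h31, h41, h32, h42, h43]
    <;> ring

theorem sum_pv_mul (j : Fin 5) : ∑ i, pv M i * M i j = 0 := by
  have h1 := sum_mul_pv h j
  have h2 : ∑ i, pv M i * M i j = -∑ i, M j i * pv M i := by
    rw [← Finset.sum_neg_distrib]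
    exact Finset.sum_congr rfl fun i _ => by rw [h.skew j i]; ring
  rw [h2, h1, neg_zero]

end

section minors

variable {R : Type*} [CommRing R] {M : Fin 5 → Fin 5 → R} (h : Alt5 M)

include h

/-- the `4 × 4` minors are the products of the Pfaffians -/
theorem det_minor (i j : Fin 5) :
    ((Matrix.of M).submatrix i.succAbove j.succAbove).det = (-1) ^ (i.1 + j.1) * (pv M i * pv M j) := by
  obtain ⟨h0, h1, h2, h3, h4, h10, h20, h30, h40, h21, h31, h41, h32, h42, h43⟩ := h.eqs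
  fin_cases i <;> fin_cases j <;>
  · simp [Matrix.det_succ_row_zero, Fin.sum_univ_succ, Fin.succAbove, pv, h0, h1, h2, h3, h4, h10, h20, h30, h40, h21,
      h31, h41, h32, h42, h43]
    try ring

theorem det_eq_zero : (Matrix.of M).det = 0 := by
  obtain ⟨h0, h1, h2, h3, h4, h10, h20, h30, h40, h21, h31, h41, h32, h42, h43⟩ := h.eqs
  simp [Matrix.det_succ_row_zero, Fin.sum_univ_succ, Fin.succAbove, h0, h1, h2, h3, h4, h10, h20, h30, h40, h21,
      h31, h41, h32, h42, h43]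
  ring

end minors

end K554.PfAlg
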