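import Groth.Agent.Fano.K554.PfRes
import Groth.Agent.Fano.K560.HomSum
import Groth.Agent.Fano.K419.QuartGood
import Groth.Agent.S0002
import Groth.Agent.LoccohB.AdPn704

/-!
# Cohomology of the Pfaffian ideal on `P^4`

* `exists_hhSum`: cohomology of a direct sum given by inclusions and projections;
* `subsingleton_tens`, `euler_tens`: for `O(t) ⊗ O(d)^m`;
* `h1_ideal`: `H¹(P, O(t) ⊗ I) = 0`; `h0_ideal`: `H⁰(P, O(t) ⊗ I) = 0` for `t ≤ 1`;
* `E_PI`: Hilbert polynomial.
-/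

set_option autoImplicit false

universe u

open CategoryTheory CategoryTheory.Limits AlgebraicGeometry TopologicalSpace Opposite

namespace K554.PfCoh

open LefPen K554.PfAlg K554.PfSheaf K554.PfRes K715.Gens K715.Res
open Groth.Agent Groth.Agent.Lefpen.H718.Chart Groth.Agent.FormalA.HHLin

section

variable {X : Scheme.{u}} (k : Type u) [CommRing k] [X.Over (Spec (CommRingCat.of k))]

theorem exists_hhSum {n : ℕ} (N : Fin n → X.Modules) (B : X.Modules) (ι : ∀ j, N j ⟶ B) (π : ∀ j, B ⟶ N j)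
    (h1 : ∀ j, ι j ≫ π j = 𝟙 _) (h2 : ∀ i j, i ≠ j → ι i ≫ π j = 0) (h3 : ∑ j, π j ≫ ι j = 𝟙 B) (p : ℕ) :
    Nonempty (Coh.HH X B p ≃ₗ[k] (∀ j, Coh.HH X (N j) p)) := by
  classical
  let F : Coh.HH X B p →ₗ[k] (∀ j, Coh.HH X (N j) p) := LinearMap.pi fun j => HHmap k (π j) p
  let G : (∀ j, Coh.HH X (N j) p) →ₗ[k] Coh.HH X B p := ∑ j, (HHmap k (ι j) p).comp (LinearMap.proj j)
  refine ⟨LinearEquiv.ofLinearMap F G ?_ ?_⟩
  · refine LinearMap.ext fun x => funext fun i => ?_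
    have e1 : (F.comp G) x i = HHmap k (π i) p (∑ j, HHmap k (ι j) p (x j)) := by
      change HHmap k (π i) p (G x) = _
      congr 1
      exact LinearMap.sum_apply _ _ _
    rw [e1, map_sum, Finset.sum_eq_single i]
    · rw [← LinearMap.comp_apply, ← HHmap_comp, h1, HHmap_id]
      rfl
    · intro j _ hj
      rw [← LinearMap.comp_apply, ← HHmap_comp, h2 j i hj, Groth.Agent.FormalB.HHLes.HHmap_zero]
      rfl
    · intro h
      exact absurd (Finset.mem_univ i) h
  · refine LinearMap.ext fun x => ?_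
    have e1 : (G.comp F) x = ∑ j, HHmap k (ι j) p (HHmap k (π j) p x) := LinearMap.sum_apply _ _ _
    have e2 : ∀ j, HHmap k (ι j) p (HHmap k (π j) p x) = HHmap k (π j ≫ ι j) p x := fun j => by
      rw [HHmap_comp]
      rfl
    rw [e1, Finset.sum_congr rfl fun j _ => e2 j, ← LinearMap.sum_apply,
      ← Groth.Agent.FormalB.HHLes.HHmap_sum, h3, HHmap_id]

/-- cohomology of a tensor product with a finite coproduct -/
theorem exists_hhTens {n : ℕ} (M : X.Modules) (N : Fin n → X.Modules) (p : ℕ) :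
    Nonempty (Coh.HH X (CohB1.tensorMod M (∐ N)) p ≃ₗ[k] (∀ j, Coh.HH X (CohB1.tensorMod M (N j)) p)) := by
  let T : X.Modules ⥤ X.Modules := (DCoh.tensorBi (X := X)).obj M
  refine exists_hhSum k (fun j => T.obj (N j)) (T.obj (∐ N)) (fun j => T.map (Sigma.ι N j))
    (fun j => T.map (Sigma.π N j)) ?_ ?_ ?_ p
  · intro j
    rw [← T.map_comp, Sigma.ι_π_eq_id, T.map_id]
  · intro i j hij
    rw [← T.map_comp, Sigma.ι_π_of_ne _ hij, T.map_zero]
  · have h : ∀ j, T.map (Sigma.π N j) ≫ T.map (Sigma.ι N j) = T.map (Sigma.π N j ≫ Sigma.ι N j) :=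
      fun j => (T.map_comp _ _).symm
    rw [Finset.sum_congr rfl fun j _ => h j, ← T.map_sum, ← K715.SumSec.id_eq_sum, T.map_id]

end

variable {n : ℕ} {k : Type u} [Field k]

theorem exists_tens (m : ℕ) (t d : ℤ) (p : ℕ) :
    Nonempty (Coh.HH (CohB1.ProjSpace n k) (CohB1.tensorMod (OO n k t) (SO m n k d)) p ≃ₗ[k]
      (Fin m → Coh.HH (CohB1.ProjSpace n k) (OO n k (t + d)) p)) := by
  obtain ⟨e1⟩ := exists_hhTens k (OO n k t) (fun _ : Fin m => OO n k d) p
  obtain ⟨e2⟩ := Coherent.K51.CIGood.nonempty_mul (N := n) (k := k) t d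
  exact ⟨e1.trans (LinearEquiv.piCongrRight fun _ => VarietyA.EulerLES.equivA k e2 p)⟩

theorem subsingleton_tens (m : ℕ) (t d : ℤ) (p : ℕ)
    (h : Subsingleton (Coh.HH (CohB1.ProjSpace n k) (OO n k (t + d)) p)) :
    Subsingleton (Coh.HH (CohB1.ProjSpace n k) (CohB1.tensorMod (OO n k t) (SO m n k d)) p) := by
  obtain ⟨e⟩ := exists_tens (n := n) (k := k) m t d p
  exact e.toEquiv.subsingleton

theorem euler_tens (m : ℕ) (t d : ℤ) :
    Curv2.euler k (CohB1.ProjSpace n k) (CohB1.tensorMod (OO n k t) (SO m n k d)) =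
      m * VarietyB.EulerBinom.c n (t + d) := by
  rw [← VarietyB.EulerBinom.euler_twist k n (t + d)]
  have h : ∀ i : ℕ, (-1 : ℤ) ^ i * (Module.finrank k (Coh.HH (CohB1.ProjSpace n k)
      (CohB1.tensorMod (OO n k t) (SO m n k d)) i) : ℤ) =
      (m : ℤ) • ((-1 : ℤ) ^ i * (Module.finrank k (Coh.HH (CohB1.ProjSpace n k) (OO n k (t + d)) i) : ℤ)) := by
    intro i
    obtain ⟨e⟩ := exists_tens (n := n) (k := k) m t d i
    rw [e.finrank_eq]
    have hfin : Module.Finite k (Coh.HH (CohB1.ProjSpace n k) (OO n k (t + d)) i) :=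
      S0002.result k _ _ (LoccohB.AdPn704.isCoh_twistProjSpace n k (t + d)) i
    rw [Module.finrank_pi_fintype]
    simp only [Finset.sum_const, Finset.card_univ, Fintype.card_fin, smul_eq_mul]
    push_cast
    ring
  unfold Curv2.euler
  rw [finsum_congr h, ← smul_finsum, smul_eq_mul]

end K554.PfCoh
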