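import Groth.Agent.Fano.K554.PfIdeal
import Groth.Agent.Surf.K462.H1Ideal
import Groth.Agent.Fano.K560.ConLift
import Groth.Agent.Fano.K560.CICoh

/-!
# The Pfaffian curve in `P^4`: Hilbert polynomial, connectedness, not contained in a hyperplane
-/

set_option autoImplicit false

universe u

open CategoryTheory CategoryTheory.Limits AlgebraicGeometry TopologicalSpace Opposite

namespace K554.PfCurve

open LefPen K554.PfAlg K554.PfSheaf K554.PfRes K554.PfCoh K554.PfIdeal K715.Gens K715.Res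
open Groth.Agent Groth.Agent.Lefpen.H718.Chart Groth.Agent.FormalA.HHLin Groth.Agent.Lefpen.H705.HypIdeal
open Groth.Agent.Lefpen.H705.ChartPoly Groth.Agent.Fdesc.LocGen K33.CIEuler

variable {k : Type u} [Field k] {M : Fin 5 → Fin 5 → Form 4 k 1}

theorem euler_ovr {N : ℕ} {Y : Scheme.{u}} [Y.Over (Spec (CommRingCat.of k))] (y : Y ⟶ CohB1.ProjSpace N k)
    (hy : y ≫ CohB1.ProjSpace.toSpec N k = Y ↘ Spec (CommRingCat.of k)) (F : Y.Modules) :
    @Curv2.euler k _ Y (ovr y) F = Curv2.euler k Y F := by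
  have h : ovr y = ‹Y.Over (Spec (CommRingCat.of k))› := by
    cases ‹Y.Over (Spec (CommRingCat.of k))›
    exact congrArg OverClass.ofHom hy
  rw [h]

section

variable (hM : Alt5 (fun a b => (M a b).1)) (hdim : topologicalKrullDim ↥(PI M).subscheme ≤ 1)

include hM hdim

/-- The Euler characteristics. -/
theorem E_PI (t : ℤ) : E (PI M).subschemeι t =
    VarietyB.EulerBinom.c 4 t - (5 * VarietyB.EulerBinom.c 4 (t + (-2)) - 5 * VarietyB.EulerBinom.c 4 (t + (-3)) +
        VarietyB.EulerBinom.c 4 (t + (-5))) := by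
  have hpr : IsProper (𝟙 (CohB1.ProjSpace 4 k) ≫ CohB1.ProjSpace.toSpec 4 k) := by
    rw [Category.id_comp]
    exact Ega3B.ProjProper.isProper_toSpec 4 k
  have h1 := E_ideal (𝟙 (CohB1.ProjSpace 4 k)) hpr (PI M) t
  rw [euler_ovr (𝟙 (CohB1.ProjSpace 4 k)) (Category.id_comp _), Category.comp_id, E_proj] at h1
  have h2 : Curv2.euler k (CohB1.ProjSpace 4 k) (CohB1.tensorMod (ClSub.idealMod (PI M))
      ((Scheme.Modules.pullback (𝟙 (CohB1.ProjSpace 4 k))).obj (Twist.twistProjSpace 4 k t))) =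
      Curv2.euler k (CohB1.ProjSpace 4 k) (CohB1.tensorMod (ClSub.idealMod (PI M)) (OO 4 k t)) :=
    CurvesC.DegIso.euler_congr k (Ega2.Tens.mapTIso (Iso.refl _) ((Scheme.Modules.pullbackId _).app _))
  rw [h2, euler_ideal hM hdim t] at h1
  linarith

theorem E_zero : E (PI M).subschemeι 0 = 0 := by
  rw [E_PI hM hdim 0]
  have h0 : VarietyB.EulerBinom.c 4 (0 : ℤ) = 1 := c_nat 4 0
  have h2 : VarietyB.EulerBinom.c 4 (0 + (-2) : ℤ) = 0 := c_zero_of 4 _ (by norm_num) (by norm_num)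
  have h3 : VarietyB.EulerBinom.c 4 (0 + (-3) : ℤ) = 0 := c_zero_of 4 _ (by norm_num) (by norm_num)
  have h5 : VarietyB.EulerBinom.c 4 (0 + (-5) : ℤ) = 1 := by
    have := c_neg 4 0
    norm_num at this ⊢
    exact this
  rw [h0, h2, h3, h5]
  norm_num

theorem E_one : E (PI M).subschemeι 1 = 5 := by
  rw [E_PI hM hdim 1]
  have h0 : VarietyB.EulerBinom.c 4 (1 : ℤ) = 5 := by
    have := c_nat 4 1
    norm_num at this ⊢
    exact this
  have h2 : VarietyB.EulerBinom.c 4 (1 + (-2) : ℤ) = 0 := c_zero_of 4 _ (by norm_num) (by norm_num)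
  have h3 : VarietyB.EulerBinom.c 4 (1 + (-3) : ℤ) = 0 := c_zero_of 4 _ (by norm_num) (by norm_num)
  have h5 : VarietyB.EulerBinom.c 4 (1 + (-5) : ℤ) = 0 := c_zero_of 4 _ (by norm_num) (by norm_num)
  rw [h0, h2, h3, h5]
  norm_num

theorem h1_ideal : Subsingleton (Coh.HH (CohB1.ProjSpace 4 k) (ClSub.idealMod (PI M)) 1) := by
  have h1 := van_ideal hM hdim 0 1 le_rfl (by omega)
  have e : CohB1.tensorMod (OO 4 k 0) (ClSub.idealMod (PI M)) ≅ ClSub.idealMod (PI M) :=
    Ega2.Tens.mapTIso (asIso (unitO 4 k)).symm (Iso.refl _) ≪≫ Ega2.Tens.lunit _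
  exact Flat2F.HHSeq.subsingleton_HH_of_iso e 1 h1

theorem connected (hne : Nonempty ↥(PI M).subscheme) : ConnectedSpace ↥(PI M).subscheme := by
  have := K711.ProjDim.isIntegral_projSpace 4 k
  have hpr : IsProper (CohB1.ProjSpace.toSpec 4 k) := Ega3B.ProjProper.isProper_toSpec 4 k
  exact K462.H1Ideal.connectedSpace_of_h1 k (CohB1.ProjSpace.toSpec 4 k) (PI M) hne (h1_ideal hM hdim)

/-- No hyperplane contains the curve. -/
theorem not_le (l : Form 4 k 1) (hl : l ≠ 0) : ¬ hypIdeal l ≤ PI M := by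
  intro hle
  obtain ⟨φ, hφ⟩ := K560.ConLift.exists_incl hle
  have hm : Mono φ := by
    have : Mono (φ ≫ ClSub.idealModι (PI M)) := by
      rw [hφ]
      change Mono (kernel.ι _)
      infer_instance
    exact mono_of_mono φ (ClSub.idealModι (PI M))
  have hS : (ShortComplex.mk φ (cokernel.π φ) (cokernel.condition φ)).ShortExact :=
    { exact := ShortComplex.exact_cokernel _, mono_f := hm, epi_g := inferInstance }
  have hS' := Sga67.TensorOps.tensor_shortExact (finLocFree (k := k) 1) hS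
  have h1 := van_ideal hM hdim 1 0 (by norm_num) (by norm_num)
  have hinj := VarietyA.EulerLES.injectiveA₀ k _ hS'
  have h2 : Subsingleton (Coh.HH (CohB1.ProjSpace 4 k) (CohB1.tensorMod (OO 4 k 1) (ClSub.idealMod (hypIdeal l))) 0) :=
    @Function.Injective.subsingleton _ _ _ hinj h1
  obtain ⟨e1⟩ := K568.HypIdMod.nonempty_iso l hl
  obtain ⟨e2⟩ := Coherent.K51.CIGood.nonempty_mul (N := 4) (k := k) 1 (-((1 : ℕ) : ℤ))
  have h3 := Flat2F.HHSeq.subsingleton_HH_of_iso (Ega2.Tens.mapTIso (Iso.refl _) e1 ≪≫ e2) 0 h2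
  have h4 := K654.AutPn.finrank_twist_nat (n := 4) (k := k) 0
  have h5 : (1 : ℤ) + -((1 : ℕ) : ℤ) = ((0 : ℕ) : ℤ) := by norm_num
  rw [h5] at h3
  rw [Module.finrank_zero_of_subsingleton] at h4
  simp at h4

end

end K554.PfCurve
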