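import Groth.Agent.Fano.K554.PfAlg
import Groth.Agent.S0558

/-!
# Exactness of the Pfaffian complex
-/

set_option autoImplicit false

universe u

open Matrix IsLocalRing

namespace K554.PfAlg

open Groth.Agent.CalgB.Minors

theorem le_height_iff {R : Type*} [CommRing R] (I : Ideal R) (n : ℕ∞) :
    n ≤ I.height ↔ ∀ P : Ideal R, P.IsPrime → I ≤ P → n ≤ P.height := by
  constructor
  · intro h P _ hP
    exact h.trans (Ideal.height_mono hP)
  · intro h
    rw [Ideal.height_eq_inf_minimalPrimes]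
    exact le_iInf₂ fun J hJ => h J hJ.isPrime hJ.1.2

/-- regular sequences in an ideal of a regular local ring -/
theorem exists_reg {R : Type u} [CommRing R] [IsRegularLocalRing R] (J : Ideal R) (hJ : J ≤ maximalIdeal R) (n : ℕ)
    (hn : (n : ℕ∞) ≤ J.height) :
    ∃ rs : List R, rs.length = n ∧ (∀ r ∈ rs, r ∈ J) ∧ RingTheory.Sequence.IsRegular R rs := by
  obtain ⟨K, hKJ, hK1, hK2⟩ := exists_spanRank_le_and_le_height_of_le_height J n hn
  have hfg : K.FG := IsNoetherian.noetherian K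
  have h1 : K.spanFinrank ≤ n := (Submodule.FG.spanRank_le_iff hfg n).mp hK1
  obtain ⟨rs, h2, h3⟩ := Groth.Agent.Models.CMSeq.exists_list_of_fg hfg
  have hmem : ∀ r ∈ rs, r ∈ K := fun r hr => by rw [← h3]; exact Ideal.subset_span hr
  have h4 : (K.height : ℕ∞) ≤ K.spanFinrank :=
    Ideal.height_le_spanFinrank K (fun h => (IsLocalRing.maximalIdeal.isMaximal R).ne_top
      (top_le_iff.mp (h ▸ hKJ.trans hJ)))
  have h5 : n ≤ K.spanFinrank := by exact_mod_cast hK2.trans h4
  refine ⟨rs, by omega, fun r hr => hKJ (hmem r hr), ?_⟩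
  refine Groth.Agent.Lefpen.H718.ConeCM.isRegular_of_height rs (fun r hr => hJ (hKJ (hmem r hr))) ?_
  rw [h3]
  refine le_trans ?_ hK2
  exact_mod_cast (by omega : rs.length ≤ n)

section

variable {R : Type u} [CommRing R] {M : Fin 5 → Fin 5 → R} (h : Alt5 M)

/-- The sizes. -/
def nn : ℕ → ℕ
  | 0 => 1
  | 1 => 5
  | 2 => 5
  | 3 => 1
  | _ => 0

/-- The matrices of the complex. -/
def AA (M : Fin 5 → Fin 5 → R) : (i : ℕ) → Matrix (Fin (nn i)) (Fin (nn (i + 1))) R
  | 0 => Matrix.of fun _ j => pv M j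
  | 1 => Matrix.of M
  | 2 => Matrix.of fun i _ => pv M i
  | _ + 3 => 0

include h in
theorem AA_comp (i : ℕ) (hi : i + 2 ≤ 3) : AA M i * AA M (i + 1) = 0 := by
  match i, hi with
  | 0, _ =>
    ext a b
    exact sum_pv_mul h b
  | 1, _ =>
    ext a b
    exact sum_mul_pv h a

include h in
theorem minor_five (r : ℕ) (hr : 5 ≤ r) : CAlgX.minorIdeal (Matrix.of M) r = ⊥ := by
  have h5 : CAlgX.minorIdeal (Matrix.of M) 5 = ⊥ := by
    rw [minorIdeal_eq_bot_iff]
    intro f g
    have h1 : (Matrix.of M).submatrix f g =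
        ((1 : Matrix (Fin 5) (Fin 5) R).submatrix f id * Matrix.of M) * (1 : Matrix (Fin 5) (Fin 5) R).submatrix id g := by
      ext a b
      simp [Matrix.mul_apply, Matrix.one_apply]
    rw [h1, Matrix.det_mul, Matrix.det_mul, det_eq_zero h, mul_zero, zero_mul]
  exact le_bot_iff.mp ((minorIdeal_antitone _ hr).trans h5.le)

include h in
theorem mul_mem_minor (i j : Fin 5) : pv M i * pv M j ∈ CAlgX.minorIdeal (Matrix.of M) 4 := by
  have h1 := det_mem_minorIdeal (Matrix.of M) i.succAbove j.succAbove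
  rw [det_minor h i j] at h1
  have h2 := Ideal.mul_mem_left _ ((-1) ^ (i.1 + j.1)) h1
  rwa [← mul_assoc, ← pow_add, Even.neg_one_pow ⟨_, rfl⟩, one_mul] at h2

theorem mem_minor_row (i : Fin 5) : pv M i ∈ CAlgX.minorIdeal (AA M 0) 1 := by
  have h1 := det_mem_minorIdeal (AA M 0) (r := 1) (fun _ => (0 : Fin 1)) (fun _ => i)
  rwa [Matrix.det_fin_one] at h1

theorem mem_minor_col (i : Fin 5) : pv M i ∈ CAlgX.minorIdeal (AA M 2) 1 := by
  have h1 := det_mem_minorIdeal (AA M 2) (r := 1) (fun _ => i) (fun _ => (0 : Fin 1))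
  rwa [Matrix.det_fin_one] at h1

end

/-- Local exactness. -/
theorem exact_local {R : Type u} [CommRing R] [IsRegularLocalRing R] {M : Fin 5 → Fin 5 → R} (h : Alt5 M)
    (hI : ∀ P : Ideal R, P.IsPrime → (∀ i, pv M i ∈ P) → 3 ≤ P.height) :
    LinearMap.ker (AA M 2).mulVecLin = ⊥ ∧
      ∀ i, i + 2 ≤ 3 → LinearMap.ker (AA M i).mulVecLin = LinearMap.range (AA M (i + 1)).mulVecLin := by
  have hdom : IsDomain R := Groth.Agent.S0558.result R
  -- some Pfaffian is nonzero
  have hne : ∃ i, pv M i ≠ 0 := by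
    by_contra hcon
    push Not at hcon
    have := hI ⊥ Ideal.isPrime_bot (fun i => by rw [hcon i]; exact zero_mem _)
    rw [Ideal.height_bot] at this
    exact absurd this (by decide)
  obtain ⟨i0, hi0⟩ := hne
  have key : ∀ J : Ideal R, (∀ i, pv M i * pv M i ∈ J) → ∀ n : ℕ, n ≤ 3 →
      (J = ⊤ ∨ ∃ rs : List R, rs.length = n ∧ (∀ r ∈ rs, r ∈ J) ∧ RingTheory.Sequence.IsRegular R rs) := by
    intro J hJ n hn
    rcases eq_or_ne J ⊤ with rfl | hJt
    · exact Or.inl rfl
    right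
    refine exists_reg J (IsLocalRing.le_maximalIdeal hJt) n ((le_height_iff _ _).mpr fun P hP hle => ?_)
    have h3 := hI P hP (fun i => (or_self_iff.mp (hP.mem_or_mem (hle (hJ i)))))
    exact le_trans (by exact_mod_cast hn) h3
  have hr1 : CAlgX.matrixRank (AA M 0) = 1 := by
    refine matrixRank_eq (fun hb => hi0 ?_) (minorIdeal_eq_bot_of_card_lt _ ?_)
    · have := mem_minor_row (M := M) i0
      rw [hb] at this
      exact this
    · simp [nn]
  have hr2 : CAlgX.matrixRank (AA M 1) = 4 := by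
    refine matrixRank_eq (fun hb => hi0 ?_) (minor_five h 5 le_rfl)
    have := mul_mem_minor h i0 i0
    have h2 : pv M i0 * pv M i0 ∈ CAlgX.minorIdeal (AA M 1) 4 := this
    rw [hb] at h2
    exact mul_self_eq_zero.mp h2
  have hr3 : CAlgX.matrixRank (AA M 2) = 1 := by
    refine matrixRank_eq (fun hb => hi0 ?_) ?_
    · have := mem_minor_col (M := M) i0
      rw [hb] at this
      exact this
    · rw [← minorIdeal_transpose]
      exact minorIdeal_eq_bot_of_card_lt _ (by simp [nn])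
  refine (Groth.Agent.S2065.result 3 (by norm_num) nn (AA M) (fun i hi => AA_comp h i hi)).2 ?_
  intro j h1 h2
  interval_cases j
  · refine ⟨?_, ?_⟩
    · rw [show 1 - 1 = 0 from rfl, hr1]
      simp [Finset.sum_Icc_succ_top, nn]
    · rw [show 1 - 1 = 0 from rfl, CAlgX.detIdeal, hr1]
      exact key _ (fun i => Ideal.mul_mem_left _ _ (mem_minor_row i)) 1 (by norm_num)
  · refine ⟨?_, ?_⟩
    · rw [show 2 - 1 = 1 from rfl, hr2]
      simp [Finset.sum_Icc_succ_top, nn]
    · rw [show 2 - 1 = 1 from rfl, CAlgX.detIdeal, hr2]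
      exact key _ (fun i => mul_mem_minor h i i) 2 (by norm_num)
  · refine ⟨?_, ?_⟩
    · rw [show 3 - 1 = 2 from rfl, hr3]
      simp [nn]
    · rw [show 3 - 1 = 2 from rfl, CAlgX.detIdeal, hr3]
      exact key _ (fun i => Ideal.mul_mem_left _ _ (mem_minor_col i)) 3 (by norm_num)

end K554.PfAlg
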