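import Groth.Agent.Fano.K554.PfCoh
import Groth.Agent.Surf.K464.Base

/-!
# Cohomology of the Pfaffian ideal on `P^4`
-/

set_option autoImplicit false

universe u

open CategoryTheory CategoryTheory.Limits AlgebraicGeometry TopologicalSpace Opposite

namespace K554.PfIdeal

open LefPen K554.PfAlg K554.PfSheaf K554.PfRes K554.PfCoh K715.Gens K715.Res
open Groth.Agent Groth.Agent.Lefpen.H718.Chart Groth.Agent.FormalA.HHLin Groth.Agent.Lefpen.H705.HypIdeal
open Groth.Agent.Lefpen.H705.ChartPoly Groth.Agent.Fdesc.LocGen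

variable {k : Type u} [Field k] {M : Fin 5 → Fin 5 → Form 4 k 1}

theorem finLocFree (t : ℤ) : FlatMod.IsFinLocFree (OO 4 k t) := Ega2.QCohLocal.isFinLocFree_of_rank
  (Ega2.QCohLocal.isFinLocFreeOfRank_one_iff.mpr (PerfB.TwistDer.isInvertible_tw 4 k t))

theorem van (d : ℤ) (p : ℕ) (h : ¬ (p = 0 ∧ 0 ≤ d)) (hp : p ≠ 4) :
    Subsingleton (Coh.HH (CohB1.ProjSpace 4 k) (OO 4 k d) p) :=
  S0844.result k 4 d p h (fun h' => hp h'.1)

theorem van_one (t d : ℤ) (p : ℕ) (h : ¬ (p = 0 ∧ 0 ≤ t + d)) (hp : p ≠ 4) :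
    Subsingleton (Coh.HH (CohB1.ProjSpace 4 k) (CohB1.tensorMod (OO 4 k t) (OO 4 k d)) p) := by
  obtain ⟨e⟩ := Coherent.K51.CIGood.nonempty_mul (N := 4) (k := k) t d
  exact Flat2F.HHSeq.subsingleton_HH_of_iso e.symm p (van (t + d) p h hp)

theorem isCoh_SO (m n : ℕ) (d : ℤ) : Coh.IsCoh (SO m n k d) := by
  have h1 : FlatMod.IsFinLocFree (SO m n k d) := Ega2.QCohLocal.isFinLocFree_of_rank
    (K715.SumSec.isFinLocFreeOfRank (N := fun _ : Fin m => OO n k d)
      (fun j : Fin (n + 1) => chart n k j) (fun x => by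
        have h1 : x ∈ (⨆ j : Fin (n + 1), chart n k j) := by
          rw [iSup_chart]; trivial
        exact Opens.mem_iSup.mp h1)
      (fun j _ => eg j d le_rfl) (fun j _ => isGen_eg j d le_rfl))
  exact PerfA.CohSerre.isCoh_of_isFinLocFree h1

variable (hM : Alt5 (fun a b => (M a b).1)) (hdim : topologicalKrullDim ↥(PI M).subscheme ≤ 1)

include hM hdim

/-- vanishing of the intermediate cohomology -/
theorem van_ideal (t : ℤ) (p : ℕ) (hp : p ≤ 1) (h : ¬ (p = 0 ∧ 0 ≤ t + (-2))) :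
    Subsingleton (Coh.HH (CohB1.ProjSpace 4 k) (CohB1.tensorMod (OO 4 k t) (ClSub.idealMod (PI M))) p) := by
  obtain ⟨K, a, pr, c, q, w, w', h1, h2⟩ := exists_shortExact hM (b := 1) hdim (by norm_num)
  have h1' := Sga67.TensorOps.tensor_shortExact (finLocFree t) h1
  have h2' := Sga67.TensorOps.tensor_shortExact (finLocFree t) h2
  have hK : Subsingleton (Coh.HH (CohB1.ProjSpace 4 k) (CohB1.tensorMod (OO 4 k t) K) (p + 1)) :=
    Flat2F.HHSeq.subsingleton_HH_right h1' (p + 1)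
      (subsingleton_tens 5 t (-3) (p + 1) (van _ _ (by omega) (by omega)))
      (van_one t (-5) (p + 1 + 1) (by omega) (by omega))
  exact Flat2F.HHSeq.subsingleton_HH_right h2' p (subsingleton_tens 5 t (-2) p (van _ _ h (by omega))) hK

omit hM hdim in
theorem euler_one (t d : ℤ) : Curv2.euler k (CohB1.ProjSpace 4 k) (CohB1.tensorMod (OO 4 k d) (OO 4 k t)) =
    VarietyB.EulerBinom.c 4 (t + d) := by
  obtain ⟨e⟩ := Coherent.K51.CIGood.nonempty_mul (N := 4) (k := k) d t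
  rw [← VarietyB.EulerBinom.euler_twist k 4 (t + d), add_comm t d]
  exact CurvesC.DegIso.euler_congr k e

omit hM hdim in
theorem euler_sum (m : ℕ) (t d : ℤ) : Curv2.euler k (CohB1.ProjSpace 4 k) (CohB1.tensorMod (SO m 4 k d) (OO 4 k t)) =
    m * VarietyB.EulerBinom.c 4 (t + d) := by
  rw [← euler_tens (n := 4) (k := k) m t d]
  exact CurvesC.DegIso.euler_congr k (Ega2.Tens.swap _ _)

theorem euler_ideal (t : ℤ) :
    Curv2.euler k (CohB1.ProjSpace 4 k) (CohB1.tensorMod (ClSub.idealMod (PI M)) (OO 4 k t)) =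
      5 * VarietyB.EulerBinom.c 4 (t + (-2)) - 5 * VarietyB.EulerBinom.c 4 (t + (-3)) +
        VarietyB.EulerBinom.c 4 (t + (-5)) := by
  obtain ⟨K, a, pr, c, q, w, w', h1, h2⟩ := exists_shortExact hM (b := 1) hdim (by norm_num)
  have hpr : IsProper (CohB1.ProjSpace 4 k ↘ Spec (CommRingCat.of k)) := Ega3B.ProjProper.isProper_toSpec 4 k
  have hL : PicF.IsInvertible (OO 4 k t) := PerfB.TwistDer.isInvertible_tw 4 k t
  have c1 : Coh.IsCoh (OO 4 k (-5)) := LoccohB.AdPn704.isCoh_twistProjSpace 4 k (-5)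
  have c2 : Coh.IsCoh (SO 5 4 k (-3)) := isCoh_SO 5 4 (-3)
  have c3 : Coh.IsCoh (SO 5 4 k (-2)) := isCoh_SO 5 4 (-2)
  have c4 : Coh.IsCoh (ClSub.idealMod (PI M)) := K464.Base.isCoh_idealMod k (CohB1.ProjSpace 4 k) (PI M)
  have cK : Coh.IsCoh K := Sga67.CohBasic.isCoh_X₁ h2 c3 c4.1
  have e1 := K464.Base.euler_tensor_add k (CohB1.ProjSpace 4 k) h1 c1 c2 cK hL
  have e2 := K464.Base.euler_tensor_add k (CohB1.ProjSpace 4 k) h2 cK c3 c4 hL
  dsimp only at e1 e2
  rw [euler_one, euler_sum] at e1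
  rw [euler_sum] at e2
  push_cast at e1 e2
  linarith

end K554.PfIdeal
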