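import Groth.Agent.Fano.K554.PfSheaf

/-!
# Exactness of the Pfaffian resolution
-/

set_option autoImplicit false

universe u

open CategoryTheory CategoryTheory.Limits AlgebraicGeometry TopologicalSpace Opposite

namespace K554.PfRes

open LefPen K554.PfAlg K554.PfSheaf K715.Geo K715.Gens K715.Res K715.SumSec K715.Pair
open Groth.Agent Groth.Agent.Lefpen.H705.HypIdeal Groth.Agent.Lefpen.H705.ChartPoly
open Groth.Agent.Fdesc.LocGen Groth.Agent.PerfA.IdealModule Groth.Agent.Lefpen.H718.Chart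

variable {n : ℕ} {k : Type u} [Field k] (M : Fin 5 → Fin 5 → Form n k 1)

/-- The ideal sheaf of the Pfaffians. -/
noncomputable abbrev PI : (CohB1.ProjSpace n k).IdealSheafData := ciIdeal (pf M)

theorem rho_pf (j : Fin (n + 1)) {U : (CohB1.ProjSpace n k).Opens} (hU : U ≤ chart n k j) (i : Fin 5) :
    rho j hU (pf M i).1 = pv (fun a b => rho j hU (M a b).1) i := by
  have h1 : (pf M i).1 = pv (fun a b => (M a b).1) i := rfl
  rw [h1]
  exact (map_pv (rho j hU) (fun a b => (M a b).1) i).symm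

theorem ideal_PI (j : Fin (n + 1)) (V : (CohB1.ProjSpace n k).affineOpens) (hV : V.1 ≤ chart n k j) :
    (PI M).ideal V = Ideal.span (Set.range fun i => rho j hV (pf M i).1) := by
  rw [K715.CIReg.ideal_eqs (pf M) j V hV, K715.CIReg.eqs, K715.CIReg.ofList_ofFn]

theorem mem_PI_iff (j : Fin (n + 1)) {V : (CohB1.ProjSpace n k).Opens} (hV : Small j V)
    (f : Γ(CohB1.ProjSpace n k, V)) :
    f ∈ (PI M).ideal ⟨V, hV.1⟩ ↔ ∃ y : Fin 5 → Γ(CohB1.ProjSpace n k, V), f = ∑ i, y i * rho j hV.2 (pf M i).1 := by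
  rw [ideal_PI M j ⟨V, hV.1⟩ hV.2, Ideal.mem_span_range_iff_exists_fun]
  constructor
  · rintro ⟨c, hc⟩; exact ⟨c, hc.symm⟩
  · rintro ⟨c, hc⟩; exact ⟨c, hc.symm⟩

variable {M} (hM : Alt5 (fun a b => (M a b).1)) {b : ℕ} (hdim : topologicalKrullDim ↥(PI M).subscheme ≤ b)
  (hb : 3 + b ≤ n)

include hM hdim hb in
theorem pfExact (j : Fin (n + 1)) {V : (CohB1.ProjSpace n k).Opens} (hV : Small j V) :
    PfExact (fun a b => rho j hV.2 (M a b).1) := by
  have : IsLocallyNoetherian (CohB1.ProjSpace n k) := inferInstance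
  have hnoeth : IsNoetherianRing Γ(CohB1.ProjSpace n k, V) := IsLocallyNoetherian.component_noetherian ⟨V, hV.1⟩
  refine exact_ring (hM.map (rho j hV.2)) (fun m hm => K554.PfStalk.isRegular_loc ⟨V, hV.1⟩ m) fun P hP hPi => ?_
  refine K554.PfStalk.le_height (PI M) (r := 3) hdim hb ⟨V, hV.1⟩ P hP ?_
  rw [ideal_PI M j ⟨V, hV.1⟩ hV.2, Ideal.span_le]
  rintro _ ⟨i, rfl⟩
  change rho j hV.2 (pf M i).1 ∈ P
  rw [rho_pf]
  exact hPi i

/-! ### the maps -/

variable (M) in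
/-- `O(-5) ⟶ O(-3)⁵`. -/
noncomputable def d3 : OO n k (-5) ⟶ SO 5 n k (-3) := col (pf M) (-5) (-3) (by norm_num)

variable (M) in
/-- `O(-3)⁵ ⟶ O(-2)⁵`. -/
noncomputable def d2 : SO 5 n k (-3) ⟶ SO 5 n k (-2) := mat M (-3) (-2) (by norm_num)

variable (M) in
/-- `O(-2)⁵ ⟶ O`. -/
noncomputable def d1 : SO 5 n k (-2) ⟶ Coh.structureModule (CohB1.ProjSpace n k) := row (pf M) (-2) (by norm_num)

variable (M) in
theorem d1_toSubscheme : d1 M ≫ ClSub.toSubscheme (PI M) = 0 := by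
  refine hom_eq_zero _ fun j V hV s => ?_
  obtain ⟨y, rfl⟩ := exists_cs (-2) j hV.2 s
  change (ClSub.toSubscheme (PI M)).app V ((d1 M).app V (cs (-2) j hV.2 y)) = 0
  rw [d1, row_cs]
  have h1 : (∑ i, y i * rho j hV.2 (pf M i).1) ∈ (PI M).ideal ⟨V, hV.1⟩ := (mem_PI_iff M j hV _).mpr ⟨y, rfl⟩
  rw [← (PI M).ker_subschemeι_app, RingHom.mem_ker] at h1
  exact h1

variable (M) in
/-- `O(-2)⁵ ⟶ I`. -/
noncomputable def psi : SO 5 n k (-2) ⟶ ClSub.idealMod (PI M) := kernel.lift _ (d1 M) (d1_toSubscheme M)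

variable (M) in
theorem psi_ι : psi M ≫ ClSub.idealModι (PI M) = d1 M := kernel.lift_ι _ _ _

variable (M) in
theorem val_psi (j : Fin (n + 1)) {U : (CohB1.ProjSpace n k).Opens} (hU : U ≤ chart n k j)
    (y : Fin 5 → Γ(CohB1.ProjSpace n k, U)) :
    (val (PI M) ((psi M).app U (cs (-2) j hU y)) : Γ(CohB1.ProjSpace n k, U)) = ∑ i, y i * rho j hU (pf M i).1 := by
  have h : (ClSub.idealModι (PI M)).app U ((psi M).app U (cs (-2) j hU y)) = (d1 M).app U (cs (-2) j hU y) := by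
    rw [← psi_ι M]; rfl
  rw [d1, row_cs] at h
  exact h

include hM in
theorem d3_d2 : d3 M ≫ d2 M = 0 := by
  refine hom_eq_zero _ fun j V hV s => ?_
  obtain ⟨c, rfl⟩ := exists_smul_eg j hV.2 s
  change (d2 M).app V ((d3 M).app V (c • eg j (-5) hV.2)) = 0
  rw [d3, col_eg, d2, mat_cs, ← cs_zero (-2) j hV.2]
  congr 1
  funext l
  have h1 := sum_mul_pv (hM.map (rho j hV.2)) l
  have h2 : ∑ i, c * rho j hV.2 (pf M i).1 * rho j hV.2 (M l i).1 =
      c * ∑ i, rho j hV.2 (M l i).1 * pv (fun a b => rho j hV.2 (M a b).1) i := by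
    rw [Finset.mul_sum]
    exact Finset.sum_congr rfl fun i _ => by rw [rho_pf]; ring
  rw [h2, h1, mul_zero]

include hM in
theorem d2_psi : d2 M ≫ psi M = 0 := by
  refine hom_eq_zero _ fun j V hV s => ?_
  obtain ⟨y, rfl⟩ := exists_cs (-3) j hV.2 s
  change (psi M).app V ((d2 M).app V (cs (-3) j hV.2 y)) = 0
  apply val_injective
  rw [d2, mat_cs, val_psi, val_zero]
  have h2 : ∑ l, (∑ i, y i * rho j hV.2 (M l i).1) * rho j hV.2 (pf M l).1 =
      ∑ i, y i * ∑ l, pv (fun a b => rho j hV.2 (M a b).1) l * rho j hV.2 (M l i).1 := by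
    simp only [Finset.sum_mul, Finset.mul_sum]
    rw [Finset.sum_comm]
    exact Finset.sum_congr rfl fun i _ => Finset.sum_congr rfl fun l _ => by rw [rho_pf]; ring
  rw [h2]
  exact Finset.sum_eq_zero fun i _ => by rw [sum_pv_mul (hM.map (rho j hV.2)) i, mul_zero]

include hM hdim hb in
theorem mono_d3 : Mono (d3 M) := by
  refine mono_of_small _ fun j V hV w hw => ?_
  obtain ⟨c, rfl⟩ := exists_smul_eg j hV.2 w
  rw [d3, col_eg, ← cs_zero (-3) j hV.2] at hw
  have h1 := cs_inj (-3) j hV.2 hw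
  have h2 := (pfExact hM hdim hb j hV).inj c fun i => by rw [← rho_pf]; exact h1 i
  rw [h2, zero_smul]

include hM hdim hb in
theorem exact_d3_d2 : (ShortComplex.mk (d3 M) (d2 M) (d3_d2 hM)).Exact := by
  refine exact_of_small _ fun j V hV w hw => ?_
  obtain ⟨y, rfl⟩ := exists_cs (-3) j hV.2 w
  have hw' : (d2 M).app V (cs (-3) j hV.2 y) = 0 := hw
  rw [d2, mat_cs, ← cs_zero (-2) j hV.2] at hw'
  have h1 := cs_inj (-2) j hV.2 hw'
  obtain ⟨c, hc⟩ := (pfExact hM hdim hb j hV).ex2 y fun l => by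
    rw [← h1 l]
    exact Finset.sum_congr rfl fun i _ => mul_comm _ _
  refine ⟨c • eg j (-5) hV.2, ?_⟩
  change (d3 M).app V (c • eg j (-5) hV.2) = _
  rw [d3, col_eg]
  congr 1
  funext i
  rw [hc i, rho_pf]

include hM hdim hb in
theorem exact_d2_psi : (ShortComplex.mk (d2 M) (psi M) (d2_psi hM)).Exact := by
  refine exact_of_small _ fun j V hV w hw => ?_
  obtain ⟨y, rfl⟩ := exists_cs (-2) j hV.2 w
  have hw' : (psi M).app V (cs (-2) j hV.2 y) = 0 := hw
  have h1 := val_psi M j hV.2 y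
  rw [hw', val_zero] at h1
  obtain ⟨z, hz⟩ := (pfExact hM hdim hb j hV).ex1 y (by
    rw [h1]
    exact Finset.sum_congr rfl fun i _ => by rw [rho_pf]; ring)
  refine ⟨cs (-3) j hV.2 z, ?_⟩
  change (d2 M).app V (cs (-3) j hV.2 z) = _
  rw [d2, mat_cs]
  congr 1
  funext i
  rw [hz i]
  exact Finset.sum_congr rfl fun l _ => mul_comm _ _

variable (M) in
theorem epi_psi : Epi (psi M) := by
  refine epi_of_small _ fun j V hV y => ?_
  obtain ⟨z, hz⟩ := (mem_PI_iff M j hV _).mp (val_mem (PI M) ⟨V, hV.1⟩ y)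
  refine ⟨cs (-2) j hV.2 z, ?_⟩
  apply val_injective
  rw [val_psi]
  exact hz.symm

/-- The resolution in two short exact sequences. -/
theorem exists_shortExact (hM : Alt5 (fun a b => (M a b).1)) {b : ℕ}
    (hdim : topologicalKrullDim ↥(PI M).subscheme ≤ b) (hb : 3 + b ≤ n) :
    ∃ (K : (CohB1.ProjSpace n k).Modules) (a : OO n k (-5) ⟶ SO 5 n k (-3)) (p : SO 5 n k (-3) ⟶ K)
      (c : K ⟶ SO 5 n k (-2)) (q : SO 5 n k (-2) ⟶ ClSub.idealMod (PI M)) (w : a ≫ p = 0) (w' : c ≫ q = 0),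
      (ShortComplex.mk a p w).ShortExact ∧ (ShortComplex.mk c q w').ShortExact := by
  have hmono := mono_d3 hM hdim hb
  have hepi := epi_psi M
  have hE1 := exact_d3_d2 hM hdim hb
  have hE2 := exact_d2_psi hM hdim hb
  let p : SO 5 n k (-3) ⟶ kernel (psi M) := kernel.lift (psi M) (d2 M) (d2_psi hM)
  have hp : p ≫ kernel.ι (psi M) = d2 M := kernel.lift_ι _ _ _
  have hw : d3 M ≫ p = 0 := by
    rw [← cancel_mono (kernel.ι (psi M)), Category.assoc, hp, d3_d2 hM, zero_comp]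
  have hepi' : Epi p := (ShortComplex.exact_iff_epi_kernel_lift _).mp hE2
  have hex : (ShortComplex.mk (d3 M) p hw).Exact := by
    let φ : ShortComplex.mk (d3 M) p hw ⟶ ShortComplex.mk (d3 M) (d2 M) (d3_d2 hM) :=
      { τ₁ := 𝟙 _, τ₂ := 𝟙 _, τ₃ := kernel.ι (psi M) }
    have : Epi φ.τ₁ := by change Epi (𝟙 _); infer_instance
    have : IsIso φ.τ₂ := by change IsIso (𝟙 _); infer_instance
    have : Mono φ.τ₃ := by change Mono (kernel.ι (psi M)); infer_instance
    exact (ShortComplex.exact_iff_of_epi_of_isIso_of_mono φ).mpr hE1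
  refine ⟨kernel (psi M), d3 M, p, kernel.ι (psi M), psi M, hw, kernel.condition _, ?_, ?_⟩
  · exact { exact := hex, mono_f := hmono, epi_g := hepi' }
  · exact { exact := ShortComplex.exact_kernel _, mono_f := inferInstance, epi_g := hepi }

end K554.PfRes
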