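import Groth.Agent.Fano.K554.PfEx
import Groth.Agent.S19962

/-!
# Exactness of the Pfaffian complex over a Noetherian ring
-/

set_option autoImplicit false

universe u

open Matrix IsLocalRing

namespace K554.PfAlg

/-- The three exactness statements. -/
structure PfExact {R : Type*} [CommRing R] (M : Fin 5 → Fin 5 → R) : Prop where
  inj : ∀ c : R, (∀ i, c * pv M i = 0) → c = 0
  ex2 : ∀ y : Fin 5 → R, (∀ i, ∑ j, M i j * y j = 0) → ∃ c, ∀ i, y i = c * pv M i
  ex1 : ∀ y : Fin 5 → R, ∑ i, pv M i * y i = 0 → ∃ z : Fin 5 → R, ∀ i, y i = ∑ j, M i j * z j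

theorem map_AA {R S : Type u} [CommRing R] [CommRing S] (f : R →+* S) (M : Fin 5 → Fin 5 → R) (i : ℕ) :
    AA (fun a b => f (M a b)) i = (AA M i).map f := by
  match i with
  | 0 => ext a b; exact map_pv f M b
  | 1 => rfl
  | 2 => ext a b; exact map_pv f M a
  | i + 3 => ext a b; exact (map_zero f).symm

theorem exact_ring {R : Type u} [CommRing R] {M : Fin 5 → Fin 5 → R} (h : Alt5 M)
    (hreg : ∀ m : Ideal R, ∀ [m.IsMaximal], IsRegularLocalRing (Localization.AtPrime m))
    (hI : ∀ P : Ideal R, P.IsPrime → (∀ i, pv M i ∈ P) → 3 ≤ P.height) : PfExact M := by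
  have hloc : ∀ (p : Ideal R) [hp : p.IsMaximal],
      LinearMap.ker ((AA M 2).map (algebraMap R (Localization.AtPrime p))).mulVecLin = ⊥ ∧
      ∀ i, i + 2 ≤ 3 → LinearMap.ker ((AA M i).map (algebraMap R (Localization.AtPrime p))).mulVecLin =
        LinearMap.range ((AA M (i + 1)).map (algebraMap R (Localization.AtPrime p))).mulVecLin := by
    intro p hp
    have := hreg p
    have h1 := exact_local (h.map (algebraMap R (Localization.AtPrime p))) (by
      intro P hP hPi
      rw [← IsLocalization.height_under p.primeCompl]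
      exact hI _ inferInstance fun i => by
        have := hPi i
        rw [map_pv] at this
        exact this)
    simp only [map_AA] at h1
    exact h1
  have hmapvec : ∀ (p : Ideal R) [hp : p.IsMaximal] {a b : ℕ} (B : Matrix (Fin a) (Fin b) R) (x : Fin b → R),
      B.mulVec x = 0 →
      (B.map (algebraMap R (Localization.AtPrime p))).mulVec (fun k => algebraMap R (Localization.AtPrime p) (x k)) = 0 := by
    intro p hp a b B x hx
    funext k
    have := congrFun hx k
    simp only [Matrix.mulVec, dotProduct, Matrix.map_apply, Pi.zero_apply] at this ⊢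
    rw [← map_zero (algebraMap R (Localization.AtPrime p)), ← this, map_sum]
    simp only [map_mul]
  -- the ideal argument
  have hex : ∀ (i : ℕ) (_ : i + 2 ≤ 3) (x : Fin (nn (i + 1)) → R), (AA M i).mulVec x = 0 →
      ∃ z, (AA M (i + 1)).mulVec z = x := by
    intro i hi x hx
    have hann : Submodule.colon (LinearMap.range (AA M (i + 1)).mulVecLin) {x} = ⊤ := by
      by_contra hc
      obtain ⟨m, hm, hle⟩ := Ideal.exists_le_maximal _ hc
      have hmp := hm.isPrime
      obtain ⟨-, h1⟩ := hloc m
      have h2 := hmapvec m (AA M i) x hx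
      have h3 : (fun k => algebraMap R (Localization.AtPrime m) (x k)) ∈
          LinearMap.ker ((AA M i).map (algebraMap R (Localization.AtPrime m))).mulVecLin := by
        rw [LinearMap.mem_ker, Matrix.mulVecLin_apply]
        exact h2
      rw [h1 i hi] at h3
      obtain ⟨y, hy⟩ := h3
      obtain ⟨c, hc, z, hz⟩ := Groth.Agent.S19962.exists_smul_eq_mulVec (AA M (i + 1)) m x y (by
        rw [← hy, Matrix.mulVecLin_apply])
      apply hc
      apply hle
      rw [Submodule.mem_colon_singleton, hz]
      exact ⟨z, by rw [Matrix.mulVecLin_apply]⟩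
    have h1 : (1 : R) ∈ Submodule.colon (LinearMap.range (AA M (i + 1)).mulVecLin) {x} := by
      rw [hann]; trivial
    rw [Submodule.mem_colon_singleton, one_smul] at h1
    obtain ⟨z, hz⟩ := h1
    exact ⟨z, by rw [← Matrix.mulVecLin_apply]; exact hz⟩
  refine ⟨?_, ?_, ?_⟩
  · intro c hc
    by_contra hc0
    have hne : Submodule.colon (⊥ : Submodule R R) {c} ≠ ⊤ := by
      intro ht
      have h1 : (1 : R) ∈ Submodule.colon (⊥ : Submodule R R) {c} := by rw [ht]; trivial
      rw [Submodule.mem_colon_singleton, one_smul, Submodule.mem_bot] at h1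
      exact hc0 h1
    obtain ⟨m, hm, hle⟩ := Ideal.exists_le_maximal _ hne
    have hmp := hm.isPrime
    obtain ⟨h1, -⟩ := hloc m
    have h2 := hmapvec m (AA M 2) (fun _ => c) (by
      funext i
      change ∑ j : Fin 1, pv M i * c = 0
      rw [Fin.sum_univ_one, mul_comm]
      exact hc i)
    have h3 : (fun _ => algebraMap R (Localization.AtPrime m) c) ∈
        LinearMap.ker ((AA M 2).map (algebraMap R (Localization.AtPrime m))).mulVecLin := by
      rw [LinearMap.mem_ker, Matrix.mulVecLin_apply]
      exact h2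
    rw [h1, Submodule.mem_bot] at h3
    have h4 : algebraMap R (Localization.AtPrime m) c = 0 := congrFun h3 (0 : Fin 1)
    rw [IsLocalization.map_eq_zero_iff m.primeCompl] at h4
    obtain ⟨s, hs⟩ := h4
    apply s.2
    apply hle
    rw [Submodule.mem_colon_singleton, Submodule.mem_bot]
    exact hs
  · intro y hy
    obtain ⟨z, hz⟩ := hex 1 (by norm_num) y (funext hy)
    refine ⟨z (0 : Fin 1), fun i => ?_⟩
    have h1 := congrFun hz i
    rw [← h1]
    change ∑ j : Fin 1, pv M i * z j = _
    rw [Fin.sum_univ_one, mul_comm]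
  · intro y hy
    obtain ⟨z, hz⟩ := hex 0 (by norm_num) y (funext fun _ => hy)
    exact ⟨z, fun i => (congrFun hz i).symm⟩

end K554.PfAlg
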