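import Groth.Agent.Fano.K554.PfStalk
import Groth.Agent.Fano.K715.Res2
import Groth.Agent.Fano.K715.SumSec

/-!
# The Pfaffian resolution `0 → O(-5) → O(-3)⁵ → O(-2)⁵ → I → 0`
-/

set_option autoImplicit false

universe u

open CategoryTheory CategoryTheory.Limits AlgebraicGeometry TopologicalSpace Opposite

namespace K554.PfSheaf

open LefPen K554.PfAlg K715.Geo K715.Gens K715.Res K715.SumSec K715.Pair
open Groth.Agent Groth.Agent.Lefpen.H705.HypIdeal Groth.Agent.Lefpen.H705.ChartPoly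
open Groth.Agent.Fdesc.LocGen Groth.Agent.PerfA.IdealModule Groth.Agent.Lefpen.H718.Chart

variable {n : ℕ} {k : Type u} [Field k]

/-! ### forms -/

theorem isHomogeneous_pv {M : Fin 5 → Fin 5 → MvPolynomial (Fin (n + 1)) k} (h : ∀ i j, (M i j).IsHomogeneous 1)
    (i : Fin 5) : (pv M i).IsHomogeneous 2 := by
  have h2 : ∀ a b c d : Fin 5, (M a b * M c d).IsHomogeneous 2 := fun a b c d => (h a b).mul (h c d)
  have key : ∀ a b c d a' b' c' d' a'' b'' c'' d'' : Fin 5,
      (M a b * M c d - M a' b' * M c' d' + M a'' b'' * M c'' d'').IsHomogeneous 2 := fun _ _ _ _ _ _ _ _ _ _ _ _ =>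
    ((h2 _ _ _ _).sub (h2 _ _ _ _)).add (h2 _ _ _ _)
  fin_cases i
  · exact key _ _ _ _ _ _ _ _ _ _ _ _
  · exact (key _ _ _ _ _ _ _ _ _ _ _ _).neg
  · exact key _ _ _ _ _ _ _ _ _ _ _ _
  · exact (key _ _ _ _ _ _ _ _ _ _ _ _).neg
  · exact key _ _ _ _ _ _ _ _ _ _ _ _

/-- The signed Pfaffians. -/
noncomputable def pf (M : Fin 5 → Fin 5 → Form n k 1) (i : Fin 5) : Form n k 2 :=
  ⟨pv (fun a b => (M a b).1) i, (MvPolynomial.mem_homogeneousSubmodule _ _).mpr
    (isHomogeneous_pv (fun a b => (MvPolynomial.mem_homogeneousSubmodule _ _).mp (M a b).2) i)⟩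

/-! ### sections of sums of `O(d)` -/

section coords

variable {t : ℕ} (d : ℤ) (j : Fin (n + 1)) {U : (CohB1.ProjSpace n k).Opens} (hU : U ≤ chart n k j)

/-- `O(d)^t`. -/
noncomputable abbrev SO (t n : ℕ) (k : Type u) [Field k] (d : ℤ) : (CohB1.ProjSpace n k).Modules :=
  ∐ (fun _ : Fin t => OO n k d)

/-- Sections of `O(d)^t`. -/
noncomputable def cs (y : Fin t → Γ(CohB1.ProjSpace n k, U)) : Γ(SO t n k d, U) :=
  ∑ i, inS (fun _ : Fin t => OO n k d) i (y i • eg j d hU)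

theorem prS_cs (y : Fin t → Γ(CohB1.ProjSpace n k, U)) (i : Fin t) :
    prS (fun _ : Fin t => OO n k d) i (cs d j hU y) = y i • eg j d hU := prS_sum _ _ _

theorem exists_cs (w : Γ(SO t n k d, U)) : ∃ y, w = cs d j hU y := by
  have h1 : ∀ i, ∃ a : Γ(CohB1.ProjSpace n k, U), prS (fun _ : Fin t => OO n k d) i w = a • eg j d hU :=
    fun i => exists_smul_eg j hU _
  choose y hy using h1
  refine ⟨y, ?_⟩
  rw [eq_sum _ w, cs]
  exact Finset.sum_congr rfl fun i _ => by rw [hy i]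

theorem cs_inj {y y' : Fin t → Γ(CohB1.ProjSpace n k, U)} (h : cs d j hU y = cs d j hU y') (i : Fin t) : y i = y' i := by
  have h1 := congrArg (prS (fun _ : Fin t => OO n k d) i) h
  rw [prS_cs, prS_cs] at h1
  exact smul_eg_injective j hU h1

theorem cs_zero : cs d j hU (fun _ : Fin t => (0 : Γ(CohB1.ProjSpace n k, U))) = 0 := by
  rw [cs]
  refine Finset.sum_eq_zero fun i _ => ?_
  rw [zero_smul]
  exact map_zero _

theorem desc_cs {P : (CohB1.ProjSpace n k).Modules} (f : ∀ _ : Fin t, OO n k d ⟶ P)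
    (y : Fin t → Γ(CohB1.ProjSpace n k, U)) :
    (Sigma.desc f).app U (cs d j hU y) = ∑ i, y i • (f i).app U (eg j d hU) := by
  rw [desc_app]
  refine Finset.sum_congr rfl fun i _ => ?_
  rw [prS_cs, Scheme.Modules.Hom.app_smul]

/-- `O(a) ⟶ O(b)^t` by a column of forms. -/
noncomputable def col {e : ℕ} (G : Fin t → Form n k e) (a b : ℤ) (h : b = a + e) : OO n k a ⟶ SO t n k b :=
  ∑ i, mulF (G i) a b h ≫ Sigma.ι (fun _ : Fin t => OO n k b) i

theorem col_eg {e : ℕ} (G : Fin t → Form n k e) (a b : ℤ) (h : b = a + e) (c : Γ(CohB1.ProjSpace n k, U)) :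
    (col G a b h).app U (c • eg j a hU) = cs b j hU (fun i => c * rho j hU (G i).1) := by
  rw [col, sum_app, cs]
  refine Finset.sum_congr rfl fun i _ => ?_
  change (Sigma.ι (fun _ : Fin t => OO n k b) i).app U ((mulF (G i) a b h).app U (c • eg j a hU)) = _
  rw [mulF_smul_eg]
  rfl

/-- `O(a)^s ⟶ O(b)^t` by a matrix of forms. -/
noncomputable def mat {s e : ℕ} (G : Fin t → Fin s → Form n k e) (a b : ℤ) (h : b = a + e) :
    SO s n k a ⟶ SO t n k b := Sigma.desc fun i => col (fun l => G l i) a b h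

theorem mat_cs {s e : ℕ} (G : Fin t → Fin s → Form n k e) (a b : ℤ) (h : b = a + e)
    (y : Fin s → Γ(CohB1.ProjSpace n k, U)) :
    (mat G a b h).app U (cs a j hU y) = cs b j hU (fun l => ∑ i, y i * rho j hU (G l i).1) := by
  rw [mat, desc_cs]
  have h1 : ∀ i, y i • (col (fun l => G l i) a b h).app U (eg j a hU) =
      cs b j hU (fun l => y i * rho j hU (G l i).1) := by
    intro i
    rw [← Scheme.Modules.Hom.app_smul, col_eg]
  rw [Finset.sum_congr rfl fun i _ => h1 i]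
  simp only [cs]
  rw [Finset.sum_comm]
  refine Finset.sum_congr rfl fun l _ => ?_
  rw [Finset.sum_smul, inS, map_sum]
  rfl

/-- `O(a)^t ⟶ O` by a row of forms. -/
noncomputable def row {e : ℕ} (G : Fin t → Form n k e) (a : ℤ) (h : 0 = a + e) :
    SO t n k a ⟶ Coh.structureModule (CohB1.ProjSpace n k) := Sigma.desc fun i => mulO (G i) a h

theorem row_cs {e : ℕ} (G : Fin t → Form n k e) (a : ℤ) (h : 0 = a + e) (y : Fin t → Γ(CohB1.ProjSpace n k, U)) :
    (row G a h).app U (cs a j hU y) = ofFun (∑ i, y i * rho j hU (G i).1) := by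
  rw [row, desc_app]
  have h1 : ∀ i, (mulO (G i) a h).app U (prS (fun _ : Fin t => OO n k a) i (cs a j hU y)) =
      ofFun (y i * rho j hU (G i).1) := by
    intro i
    rw [prS_cs, mulO_eg]
  rw [Finset.sum_congr rfl fun i _ => h1 i]
  exact (map_sum (AddMonoidHom.mk' (fun f : Γ(CohB1.ProjSpace n k, U) => ofFun f) (fun _ _ => rfl)) _ _).symm

end coords

end K554.PfSheaf
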