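import Groth.Agent.ProjDual.K273.Dim
import Groth.Agent.ProjDual.K272.PnVan
import Groth.Agent.Fano.K554.PfRing
import Groth.Agent.Fano.K715.CIReg

/-!
# Heights of the primes of a closed subscheme of `P^n` of dimension at most `b`, and exactness of the Pfaffian complex
of a matrix of forms over affine opens
-/

set_option autoImplicit false

universe u

open CategoryTheory CategoryTheory.Limits AlgebraicGeometry TopologicalSpace Opposite

namespace K554.PfStalk

open LefPen K554.PfAlg Groth.Agent.CycB.RelDim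

variable {n : ℕ} {k : Type u} [Field k]

/-- `dim O_{P,x} ≥ n - b` on a closed subscheme of dimension at most `b`. -/
theorem exists_dim (I : (CohB1.ProjSpace n k).IdealSheafData) {b : ℕ}
    (hdim : topologicalKrullDim ↥I.subscheme ≤ b) (z : I.subscheme) :
    ∃ a : ℕ, ringKrullDim ((CohB1.ProjSpace n k).presheaf.stalk (I.subschemeι z)) = a ∧ n ≤ a + b := by
  obtain ⟨a, t, ha, ht, hat⟩ := K273.Dim.exists_dims (CohB1.ProjSpace.toSpec n k) n (K272.PnVan.component_dim k n)
    (I.subschemeι z)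
  refine ⟨a, ha, ?_⟩
  obtain ⟨Z, i, hi, hZ, -, hr⟩ := Groth.Agent.Fga.IntegralSub.exists_integral_closed z
  have hz : z ∈ Set.range i := by
    rw [hr]
    exact subset_closure rfl
  obtain ⟨w, hw⟩ := hz
  obtain ⟨a', t', n', -, ht', hn', hat'⟩ := K273.Dim.exists_dims_sub (CohB1.ProjSpace.toSpec n k) (i ≫ I.subschemeι) w
  have h1 : (i ≫ I.subschemeι) w = I.subschemeι z := by
    rw [← hw]
    rfl
  rw [h1] at ht'
  have h2 : t = t' := by
    have : ((t : ℕ) : Cardinal.{u}) = t' := by rw [← ht, ← ht']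
    exact_mod_cast this
  have h3 : topologicalKrullDim (Set.range (i ≫ I.subschemeι) : Set (CohB1.ProjSpace n k)) ≤ b := by
    refine le_trans ?_ hdim
    rw [← IsHomeomorph.topologicalKrullDim_eq _ (i ≫ I.subschemeι).isEmbedding.toHomeomorph.isHomeomorph]
    exact i.isEmbedding.isInducing.topologicalKrullDim_le
  rw [hn'] at h3
  have h4 : n' ≤ b := by exact_mod_cast h3
  omega

theorem le_height (I : (CohB1.ProjSpace n k).IdealSheafData) {b r : ℕ}
    (hdim : topologicalKrullDim ↥I.subscheme ≤ b) (hr : r + b ≤ n) (V : (CohB1.ProjSpace n k).affineOpens)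
    (P : Ideal Γ(CohB1.ProjSpace n k, V.1)) (hP : P.IsPrime) (hle : I.ideal V ≤ P) : (r : ℕ∞) ≤ P.height := by
  let y : PrimeSpectrum Γ(CohB1.ProjSpace n k, V.1) := ⟨P, hP⟩
  have hyV : V.2.fromSpec y ∈ V.1 := by
    have h1 : V.2.fromSpec y ∈ Set.range V.2.fromSpec := ⟨y, rfl⟩
    rwa [V.2.range_fromSpec] at h1
  have hpr : V.2.primeIdealOf ⟨V.2.fromSpec y, hyV⟩ = y := by
    apply V.2.fromSpec.isOpenEmbedding.injective
    exact V.2.fromSpec_primeIdealOf ⟨V.2.fromSpec y, hyV⟩
  have hsupp : V.2.fromSpec y ∈ I.support := by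
    rw [Scheme.IdealSheafData.mem_support_iff_of_mem hyV]
    have h1 := V.2.fromSpec_preimage_zeroLocus (I.ideal V : Set Γ(CohB1.ProjSpace n k, V.1))
    have h2 : y ∈ PrimeSpectrum.zeroLocus (I.ideal V : Set Γ(CohB1.ProjSpace n k, V.1)) := hle
    rw [← h1] at h2
    exact h2
  have hr' : V.2.fromSpec y ∈ Set.range I.subschemeι := by
    rw [I.range_subschemeι]
    exact hsupp
  obtain ⟨z, hz⟩ := hr'
  obtain ⟨a, ha, hna⟩ := exists_dim I hdim z
  let := (CohB1.ProjSpace n k).presheaf.algebra_section_stalk ⟨V.2.fromSpec y, hyV⟩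
  have hloc := V.2.isLocalization_stalk ⟨V.2.fromSpec y, hyV⟩
  have h3 := IsLocalization.AtPrime.ringKrullDim_eq_height (V.2.primeIdealOf ⟨V.2.fromSpec y, hyV⟩).asIdeal
    ((CohB1.ProjSpace n k).presheaf.stalk (V.2.fromSpec y))
  rw [hpr] at h3
  rw [hz, h3] at ha
  have h4 : (P.height : ℕ∞) = a := by exact_mod_cast ha
  rw [h4]
  exact_mod_cast (by omega : r ≤ a)

/-- the local rings of an affine open of `P^n` are regular -/
theorem isRegular_loc (V : (CohB1.ProjSpace n k).affineOpens) (m : Ideal Γ(CohB1.ProjSpace n k, V.1)) [hm : m.IsPrime] :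
    IsRegularLocalRing (Localization.AtPrime m) := by
  let y : PrimeSpectrum Γ(CohB1.ProjSpace n k, V.1) := ⟨m, hm⟩
  have hyV : V.2.fromSpec y ∈ V.1 := by
    have h1 : V.2.fromSpec y ∈ Set.range V.2.fromSpec := ⟨y, rfl⟩
    rwa [V.2.range_fromSpec] at h1
  have hpr : V.2.primeIdealOf ⟨V.2.fromSpec y, hyV⟩ = y := by
    apply V.2.fromSpec.isOpenEmbedding.injective
    exact V.2.fromSpec_primeIdealOf ⟨V.2.fromSpec y, hyV⟩
  let := (CohB1.ProjSpace n k).presheaf.algebra_section_stalk ⟨V.2.fromSpec y, hyV⟩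
  have hloc := V.2.isLocalization_stalk ⟨V.2.fromSpec y, hyV⟩
  rw [hpr] at hloc
  have := K715.CIReg.isRegular_stalk (n := n) (k := k) (V.2.fromSpec y)
  have hloc' : IsLocalization.AtPrime ((CohB1.ProjSpace n k).presheaf.stalk (V.2.fromSpec y)) m := hloc
  exact IsRegularLocalRing.of_ringEquiv
    (IsLocalization.algEquiv m.primeCompl ((CohB1.ProjSpace n k).presheaf.stalk (V.2.fromSpec y))
      (Localization.AtPrime m)).toRingEquiv

end K554.PfStalk
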