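import Groth.Agent.Curves.K319.PnSep
import Groth.Agent.Lefpen.H727.Tangent
import Groth.Agent.Fano.K783.LinPts
import Groth.Agent.Lefpen.H705.LocFinal
import Groth.Agent.VBCurve.K707.Slope

/-!
# Linear forms at closed points of a curve in projective space

`j : C ⟶ P^n` a closed immersion, `k` algebraically closed.

* `cst p x : k →+* O_{C,x}`; `evp j m x hx : k[X_0, …, X_n] →+* O_{C,x}` (division by `X_m`), `co j m x hx l = X_l / X_m`;
* `exists_sub_cst_mem`: the residue field at a closed point is `k`;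
* `exists_two`: every element of `O_{C,x}` is a linear form modulo `m_x ^ 2`;
* `exists_sep`: linear forms separate closed points;
* `exists_lin`: linear forms are onto `∏ O_{C,x} / m_x ^ δ_x` if `∑ δ_x ≤ 2`.
-/

set_option autoImplicit false
set_option linter.unusedSectionVars false
universe u

open CategoryTheory CategoryTheory.Limits AlgebraicGeometry TopologicalSpace Opposite IsLocalRing

namespace K554.PtCurve

open LefPen K715.Geo Groth.Agent Groth.Agent.Fdesc.LocGen
open Groth.Agent.Lefpen.H705.HypIdeal Groth.Agent.Lefpen.H705.ChartPoly Groth.Agent.Lefpen.H705.PointCoord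
open Groth.Agent.Sga5 Groth.Agent.Lefpen.H705.ClosedPoint

variable {n : ℕ} {k : Type u} [Field k] {C : Scheme.{u}}

/-- The constants in the local ring. -/
noncomputable def cst (p : C ⟶ Spec (CommRingCat.of k)) (x : C) : k →+* C.presheaf.stalk x := LefPen.toStalk k p x

/-- The residue field at a closed point is `k`. -/
theorem exists_sub_cst_mem [IsAlgClosed k] (p : C ⟶ Spec (CommRingCat.of k)) [LocallyOfFiniteType p] (x : C)
    (hx : IsClosed ({x} : Set C)) (z : C.presheaf.stalk x) :
    ∃ c : k, z - cst p x c ∈ maximalIdeal (C.presheaf.stalk x) :=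
  exists_sub_toStalk_mem p x hx z

variable (j : C ⟶ CohB1.ProjSpace n k)

/-- Polynomials at a point of a chart (division by the `m`-th coordinate). -/
noncomputable def evp (m : Fin (n + 1)) (x : C) (hx : x ∈ j ⁻¹ᵁ chart n k m) :
    MvPolynomial (Fin (n + 1)) k →+* C.presheaf.stalk x :=
  (C.presheaf.germ (j ⁻¹ᵁ chart n k m) x hx).hom.comp ((j.app (chart n k m)).hom.comp (rho m le_rfl))

theorem evp_apply (m : Fin (n + 1)) (x : C) (hx : x ∈ j ⁻¹ᵁ chart n k m) (P : MvPolynomial (Fin (n + 1)) k) :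
    evp j m x hx P = C.presheaf.germ (j ⁻¹ᵁ chart n k m) x hx (j.app (chart n k m) (rho m le_rfl P)) := rfl

/-- The coordinates at a point of a chart. -/
noncomputable def co (m : Fin (n + 1)) (x : C) (hx : x ∈ j ⁻¹ᵁ chart n k m) (l : Fin (n + 1)) :
    C.presheaf.stalk x :=
  C.presheaf.germ (j ⁻¹ᵁ chart n k m) x hx (j.app (chart n k m) (rho m le_rfl (MvPolynomial.X l)))

theorem evp_X (m : Fin (n + 1)) (x : C) (hx : x ∈ j ⁻¹ᵁ chart n k m) (l : Fin (n + 1)) :
    evp j m x hx (MvPolynomial.X l) = co j m x hx l := rfl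

theorem evp_eq (m : Fin (n + 1)) (x : C) (hx : x ∈ j ⁻¹ᵁ chart n k m) (P : MvPolynomial (Fin (n + 1)) k) :
    evp j m x hx P = coordHom j m x hx (ProjChart.dehom n k m P) := by
  rw [evp_apply, rho, RingHom.comp_apply, RingHom.comp_apply, ores_refl]
  have h1 := Scheme.Hom.germ_stalkMap j (chart n k m) x hx
  exact congr($(h1).hom (polyToChart m (ProjChart.dehom n k m P))).symm

variable (p : C ⟶ Spec (CommRingCat.of k)) (hp : j ≫ CohB1.ProjSpace.toSpec n k = p)

include hp in
theorem evp_C (m : Fin (n + 1)) (x : C) (hx : x ∈ j ⁻¹ᵁ chart n k m) (a : k) :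
    evp j m x hx (MvPolynomial.C a) = cst p x a := by
  subst hp
  rw [evp_eq, ProjChart.dehom_C, coordHom_C]
  rfl

theorem co_self (m : Fin (n + 1)) (x : C) (hx : x ∈ j ⁻¹ᵁ chart n k m) : co j m x hx m = 1 := by
  rw [← evp_X, evp_eq, ProjChart.dehom_X_self, map_one]

theorem co_succAbove (m : Fin (n + 1)) (x : C) (hx : x ∈ j ⁻¹ᵁ chart n k m) (l : Fin n) :
    co j m x hx (m.succAbove l) = coordHom j m x hx (MvPolynomial.X l) := by
  rw [← evp_X, evp_eq, ProjChart.dehom_X]

/-- A linear form at a point. -/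
noncomputable def lv (m : Fin (n + 1)) (x : C) (hx : x ∈ j ⁻¹ᵁ chart n k m) (c : Fin (n + 1) → k) :
    C.presheaf.stalk x := ∑ l, cst p x (c l) * co j m x hx l

theorem lv_add (m : Fin (n + 1)) (x : C) (hx : x ∈ j ⁻¹ᵁ chart n k m) (c d : Fin (n + 1) → k) :
    lv j p m x hx (c + d) = lv j p m x hx c + lv j p m x hx d := by
  simp only [lv, Pi.add_apply, map_add, add_mul, Finset.sum_add_distrib]

theorem lv_smul (m : Fin (n + 1)) (x : C) (hx : x ∈ j ⁻¹ᵁ chart n k m) (a : k) (c : Fin (n + 1) → k) :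
    lv j p m x hx (a • c) = cst p x a * lv j p m x hx c := by
  simp only [lv, Pi.smul_apply, smul_eq_mul, map_mul, Finset.mul_sum, mul_assoc]

include hp in
theorem lv_eq (m : Fin (n + 1)) (x : C) (hx : x ∈ j ⁻¹ᵁ chart n k m) (c : Fin (n + 1) → k) :
    lv j p m x hx c = evp j m x hx (∑ l, MvPolynomial.C (c l) * MvPolynomial.X l) := by
  rw [map_sum]
  refine Finset.sum_congr rfl fun l _ => ?_
  rw [map_mul, evp_C j p hp, evp_X]

theorem sum_isHom (c : Fin (n + 1) → k) :
    (∑ l, MvPolynomial.C (c l) * MvPolynomial.X l : MvPolynomial (Fin (n + 1)) k) ∈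
      CohB1.polyGrading n k 1 := by
  refine Submodule.sum_mem _ fun l _ => ?_
  rw [← MvPolynomial.smul_eq_C_mul]
  exact Submodule.smul_mem _ _ (LefPen.X_mem n k l)

include hp in
/-- Vanishing of a linear form at a point does not depend on the chart. -/
theorem lv_mem_iff (m m' : Fin (n + 1)) (x : C) (hx : x ∈ j ⁻¹ᵁ chart n k m) (hx' : x ∈ j ⁻¹ᵁ chart n k m')
    (c : Fin (n + 1) → k) (I : Ideal (C.presheaf.stalk x)) :
    lv j p m x hx c ∈ I ↔ lv j p m' x hx' c ∈ I := by
  have h1 := Groth.Agent.Lefpen.H727.Tangent.stalkEqn_mem_iff j m m' x hx hx'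
    (⟨_, sum_isHom c⟩ : LefPen.Form n k 1) I
  rw [stalkEqn_eq, stalkEqn_eq, ← evp_eq j m x hx, ← evp_eq j m' x hx', ← lv_eq j p hp, ← lv_eq j p hp] at h1
  exact h1

/-- the linear form `X_{m.succAbove l} - a X_m` -/
noncomputable def sepc (m : Fin (n + 1)) (l : Fin n) (a : k) : Fin (n + 1) → k :=
  Pi.single (m.succAbove l) 1 - a • Pi.single m 1

theorem lv_sepc (m m' : Fin (n + 1)) (x : C) (hx : x ∈ j ⁻¹ᵁ chart n k m') (l : Fin n) (a : k) :
    lv j p m' x hx (sepc m l a) = co j m' x hx (m.succAbove l) - cst p x a * co j m' x hx m := by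
  have h1 : ∀ i : Fin (n + 1), lv j p m' x hx (Pi.single i 1) = co j m' x hx i := fun i => by
    rw [lv, Finset.sum_eq_single i]
    · rw [Pi.single_eq_same, map_one, one_mul]
    · intro b _ hb
      rw [Pi.single_eq_of_ne hb, map_zero, zero_mul]
    · intro h
      exact absurd (Finset.mem_univ i) h
  have h2 : sepc m l a = Pi.single (m.succAbove l) 1 + (-a) • Pi.single m 1 := by
    rw [sepc, neg_smul, sub_eq_add_neg]
  rw [h2, lv_add, lv_smul, h1, h1, map_neg, neg_mul, sub_eq_add_neg]

section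

variable [IsAlgClosed k] [LocallyOfFiniteType p]

include hp in
/-- Every element of the local ring is a linear form modulo the square of the maximal ideal. -/
theorem exists_two [IsClosedImmersion j] (x : C) (hc : IsClosed ({x} : Set C)) (m : Fin (n + 1))
    (hx : x ∈ j ⁻¹ᵁ chart n k m) (g : C.presheaf.stalk x) :
    ∃ c : Fin (n + 1) → k, lv j p m x hx c - g ∈ maximalIdeal (C.presheaf.stalk x) ^ 2 := by
  subst hp
  obtain ⟨a, ha⟩ := K319.PnSep.exists_coords j m x hx hc
  have hspan := maximalIdeal_eq_span j m x hx a ha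
  obtain ⟨g0, hg0⟩ := exists_sub_cst_mem (j ≫ CohB1.ProjSpace.toSpec n k) x hc g
  rw [hspan, Ideal.mem_span_range_iff_exists_fun] at hg0
  obtain ⟨r, hr⟩ := hg0
  choose s hs using fun l => exists_sub_cst_mem (j ≫ CohB1.ProjSpace.toSpec n k) x hc (r l)
  -- the coefficients
  let c : Fin (n + 1) → k := m.insertNth (g0 - ∑ l, s l * a l) s
  refine ⟨c, ?_⟩
  have h1 : lv j (j ≫ CohB1.ProjSpace.toSpec n k) m x hx c = cst (j ≫ CohB1.ProjSpace.toSpec n k) x g0 +
      ∑ l, cst (j ≫ CohB1.ProjSpace.toSpec n k) x (s l) * coordHom j m x hx (MvPolynomial.X l - MvPolynomial.C (a l)) := by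
    rw [lv, Fin.sum_univ_succAbove _ m, co_self, mul_one]
    have h2 : c m = g0 - ∑ l, s l * a l := Fin.insertNth_apply_same (α := fun _ => k) m _ s
    have h3 : ∀ l, c (m.succAbove l) = s l := fun l => Fin.insertNth_apply_succAbove (α := fun _ => k) m _ s l
    simp only [h2, h3, co_succAbove, map_sub, map_sum, map_mul, mul_sub, coordHom_C, Finset.sum_sub_distrib]
    simp only [cst]
    ring
  rw [h1]
  have h4 : g = cst (j ≫ CohB1.ProjSpace.toSpec n k) x g0 +
      ∑ l, r l * coordHom j m x hx (MvPolynomial.X l - MvPolynomial.C (a l)) := by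
    rw [hr]; ring
  rw [h4, add_sub_add_left_eq_sub, ← Finset.sum_sub_distrib, pow_two]
  refine Ideal.sum_mem _ fun l _ => ?_
  rw [← sub_mul]
  refine Ideal.mul_mem_mul ?_ (ha l)
  rw [← neg_sub]
  exact (maximalIdeal (C.presheaf.stalk x)).neg_mem (hs l)

include hp in
/-- Linear forms separate closed points. -/
theorem exists_sep [IsClosedImmersion j] (P Q : C) (hP : IsClosed ({P} : Set C)) (hPQ : Q ≠ P)
    (m : Fin (n + 1)) (hm : P ∈ j ⁻¹ᵁ chart n k m) (m' : Fin (n + 1)) (hm' : Q ∈ j ⁻¹ᵁ chart n k m') :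
    ∃ c : Fin (n + 1) → k, lv j p m P hm c ∈ maximalIdeal (C.presheaf.stalk P) ∧
      IsUnit (lv j p m' Q hm' c) := by
  subst hp
  obtain ⟨a, ha⟩ := K319.PnSep.exists_coords j m P hm hP
  by_contra hcon
  push Not at hcon
  have hv : ∀ (x : C) (hx : x ∈ j ⁻¹ᵁ chart n k m) (l : Fin n),
      lv j (j ≫ CohB1.ProjSpace.toSpec n k) m x hx (sepc m l (a l)) =
        coordHom j m x hx (MvPolynomial.X l - MvPolynomial.C (a l)) := fun x hx l => by
    rw [lv_sepc, co_succAbove, co_self, mul_one, map_sub, coordHom_C]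
    rfl
  have hQl : ∀ l, lv j (j ≫ CohB1.ProjSpace.toSpec n k) m' Q hm' (sepc m l (a l)) ∈
      maximalIdeal (C.presheaf.stalk Q) := fun l =>
    (mem_maximalIdeal _).mpr (hcon (sepc m l (a l)) (by rw [hv]; exact ha l))
  by_cases hQm : Q ∈ j ⁻¹ᵁ chart n k m
  · apply hPQ
    have h1 : ∀ l, coordHom j m Q hQm (MvPolynomial.X l - MvPolynomial.C (a l)) ∈
        maximalIdeal (C.presheaf.stalk Q) := by
      intro l
      have h2 := hQl l
      rw [lv_mem_iff j _ rfl m' m Q hm' hQm, hv] at h2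
      exact h2
    have e1 := eq_span_of_mem a ((maximalIdeal (C.presheaf.stalk P)).comap (coordHom j m P hm))
      (Ideal.IsPrime.ne_top inferInstance) ha
    have e2 := eq_span_of_mem a ((maximalIdeal (C.presheaf.stalk Q)).comap (coordHom j m Q hQm))
      (Ideal.IsPrime.ne_top inferInstance) h1
    have e3 : (maximalIdeal (C.presheaf.stalk P)).comap (chartStalk j m P hm) =
        (maximalIdeal (C.presheaf.stalk Q)).comap (chartStalk j m Q hQm) := by
      have h2 := e1.trans e2.symm
      rw [coordHom_eq, coordHom_eq, ← Ideal.comap_comap, ← Ideal.comap_comap] at h2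
      exact Ideal.comap_injective_of_surjective _ (polyToChart_bijective m).2 h2
    apply j.isClosedEmbedding.injective
    have hU := CurvesC.ProjSpaceBasic.isAffineOpen_Dp n k m
    have e4 : ∀ (x : C) (hx : j x ∈ LefPen.chart n k m),
        (hU.primeIdealOf ⟨j x, hx⟩).asIdeal = (maximalIdeal (C.presheaf.stalk x)).comap (chartStalk j m x hx) := by
      intro x hx
      rw [chartStalk, ← Ideal.comap_comap]
      have h3 : (maximalIdeal (C.presheaf.stalk x)).comap (j.stalkMap x).hom =
          maximalIdeal ((CohB1.ProjSpace n k).presheaf.stalk (j x)) :=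
        IsLocalRing.eq_maximalIdeal (Ideal.comap_isMaximal_of_surjective _ (j.stalkMap_surjective x))
      rw [h3]
      let _ := (CohB1.ProjSpace n k).presheaf.algebra_section_stalk
        (⟨j x, hx⟩ : CurvesC.ProjSpaceBasic.Dp n k m)
      have hloc : IsLocalization.AtPrime ((CohB1.ProjSpace n k).presheaf.stalk (j x))
          (hU.primeIdealOf ⟨j x, hx⟩).asIdeal := hU.isLocalization_stalk ⟨j x, hx⟩
      exact (IsLocalization.AtPrime.under_maximalIdeal ((CohB1.ProjSpace n k).presheaf.stalk (j x))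
        (hU.primeIdealOf ⟨j x, hx⟩).asIdeal).symm
    have e5 : hU.primeIdealOf ⟨j Q, hQm⟩ = hU.primeIdealOf ⟨j P, hm⟩ := by
      apply PrimeSpectrum.ext
      rw [e4, e4, e3]
    have e6 := congrArg (fun p => hU.fromSpec p) e5
    simpa only [hU.fromSpec_primeIdealOf] using e6
  · have hmm : m' ≠ m := by rintro rfl; exact hQm hm'
    obtain ⟨l, rfl⟩ := Fin.exists_succAbove_eq hmm
    have h1 := hQl l
    rw [lv_sepc, co_self] at h1
    have h2 : co j (m.succAbove l) Q hm' m ∈ maximalIdeal (C.presheaf.stalk Q) := by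
      rw [mem_maximalIdeal]
      intro hu
      apply hQm
      refine K319.PnSep.mem_chart_of_isUnit j _ m Q hm' ?_
      rw [← evp_eq j (m.succAbove l) Q hm', evp_X]
      exact hu
    have h5 := Ideal.mul_mem_left _ (cst (j ≫ CohB1.ProjSpace.toSpec n k) Q (a l)) h2
    have h6 := Ideal.add_mem _ h1 h5
    rw [sub_add_cancel] at h6
    exact (Ideal.ne_top_iff_one _).mp (Ideal.IsPrime.ne_top inferInstance) h6

include hp in
/-- A linear form with given values at two closed points. -/
theorem exists_pair [IsClosedImmersion j] (P Q : C) (hP : IsClosed ({P} : Set C)) (hQ : IsClosed ({Q} : Set C))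
    (hPQ : Q ≠ P) (m : Fin (n + 1)) (hm : P ∈ j ⁻¹ᵁ chart n k m) (m' : Fin (n + 1)) (hm' : Q ∈ j ⁻¹ᵁ chart n k m')
    (g : C.presheaf.stalk P) (g' : C.presheaf.stalk Q) :
    ∃ c : Fin (n + 1) → k, lv j p m P hm c - g ∈ maximalIdeal (C.presheaf.stalk P) ∧
      lv j p m' Q hm' c - g' ∈ maximalIdeal (C.presheaf.stalk Q) := by
  obtain ⟨u, hu, hu'⟩ := exists_sep j p hp P Q hP hPQ m hm m' hm'
  obtain ⟨v, hv, hv'⟩ := exists_sep j p hp Q P hQ hPQ.symm m' hm' m hm
  have key : ∀ (x : C) (_ : IsClosed ({x} : Set C)) (z w : C.presheaf.stalk x), IsUnit z →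
      ∃ s : k, cst p x s * z - w ∈ maximalIdeal (C.presheaf.stalk x) := by
    intro x hx z w hz
    obtain ⟨a, ha⟩ := exists_sub_cst_mem p x hx z
    obtain ⟨b, hb⟩ := exists_sub_cst_mem p x hx w
    have ha0 : a ≠ 0 := by
      rintro rfl
      rw [map_zero, sub_zero] at ha
      exact (mem_maximalIdeal _).mp ha hz
    refine ⟨b / a, ?_⟩
    have h1 : cst p x (b / a) * z - w = cst p x (b / a) * (z - cst p x a) - (w - cst p x b) := by
      have h2 : cst p x (b / a) * cst p x a = cst p x b := by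
        rw [← map_mul, div_mul_cancel₀ _ ha0]
      rw [mul_sub, h2]
      ring
    rw [h1]
    exact Ideal.sub_mem _ (Ideal.mul_mem_left _ _ ha) hb
  obtain ⟨s, hs⟩ := key P hP _ g hv'
  obtain ⟨t, ht⟩ := key Q hQ _ g' hu'
  refine ⟨s • v + t • u, ?_, ?_⟩
  · rw [lv_add, lv_smul, lv_smul, add_sub_right_comm]
    exact Ideal.add_mem _ hs (Ideal.mul_mem_left _ _ hu)
  · rw [lv_add, lv_smul, lv_smul, add_sub_assoc]
    exact Ideal.add_mem _ (Ideal.mul_mem_left _ _ hv) ht

include hp in
/-- **Linear forms are onto `∏ O_{C,x} / m_x ^ δ_x` if `∑ δ_x ≤ 2`.** -/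
theorem exists_lin [IsClosedImmersion j] (B : Finset C) (hB : ∀ x ∈ B, IsClosed ({x} : Set C))
    (mm : C → Fin (n + 1)) (hm : ∀ x ∈ B, x ∈ j ⁻¹ᵁ chart n k (mm x)) (δ : C → ℕ) (hδ : ∑ x ∈ B, δ x ≤ 2)
    (g : ∀ x : C, C.presheaf.stalk x) :
    ∃ c : Fin (n + 1) → k, ∀ (x : C) (hx : x ∈ B),
      (∑ l, cst p x (c l) * co j (mm x) x (hm x hx) l) - g x ∈ maximalIdeal (C.presheaf.stalk x) ^ δ x := by
  classical
  rcases B.eq_empty_or_nonempty with rfl | ⟨x₀, hx₀⟩
  · exact ⟨0, fun x hx => absurd hx (Finset.notMem_empty x)⟩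
  by_cases hA : ∃ x ∈ B, ∀ y ∈ B, y ≠ x → δ y = 0
  · obtain ⟨x, hx, h0⟩ := hA
    obtain ⟨c, hc⟩ := exists_two j p hp x (hB x hx) (mm x) (hm x hx) (g x)
    refine ⟨c, fun y hy => ?_⟩
    by_cases hyx : y = x
    · subst hyx
      have h1 : δ y ≤ 2 := (Finset.single_le_sum (fun _ _ => Nat.zero_le _) hy).trans hδ
      exact Ideal.pow_le_pow_right h1 hc
    · rw [h0 y hy hyx, pow_zero, Ideal.one_eq_top]
      exact Submodule.mem_top
  · push Not at hA
    obtain ⟨P, hP, -, hP0⟩ := hA x₀ hx₀
    obtain ⟨Q, hQ, hQP, hQ0⟩ := hA P hP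
    have h2 : δ P + δ Q ≤ 2 := by
      refine le_trans (le_of_eq ?_) ((Finset.sum_le_sum_of_subset
        (show ({P, Q} : Finset C) ⊆ B from ?_)).trans hδ)
      · rw [Finset.sum_pair hQP.symm]
      · intro z hz
        rcases Finset.mem_insert.mp hz with rfl | hz
        · exact hP
        · rw [Finset.mem_singleton.mp hz]; exact hQ
    have h3 : ∀ z ∈ B, z ≠ P → z ≠ Q → δ z = 0 := by
      intro z hz hzP hzQ
      have h4 : δ z + (δ P + δ Q) ≤ 2 := by
        refine le_trans (le_of_eq ?_) ((Finset.sum_le_sum_of_subset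
          (show ({z, P, Q} : Finset C) ⊆ B from ?_)).trans hδ)
        · rw [Finset.sum_insert (by
            rw [Finset.mem_insert, Finset.mem_singleton]
            exact fun h => h.elim hzP hzQ), Finset.sum_pair hQP.symm]
        · intro w hw
          rcases Finset.mem_insert.mp hw with rfl | hw
          · exact hz
          rcases Finset.mem_insert.mp hw with rfl | hw
          · exact hP
          · rw [Finset.mem_singleton.mp hw]; exact hQ
      omega
    obtain ⟨c, hc, hc'⟩ := exists_pair j p hp P Q (hB P hP) (hB Q hQ) hQP (mm P) (hm P hP) (mm Q) (hm Q hQ)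
      (g P) (g Q)
    refine ⟨c, fun z hz => ?_⟩
    by_cases hzP : z = P
    · subst hzP
      have h5 : δ z = 1 := by omega
      rw [h5, pow_one]
      exact hc
    by_cases hzQ : z = Q
    · subst hzQ
      have h5 : δ z = 1 := by omega
      rw [h5, pow_one]
      exact hc'
    rw [h3 z hz hzP hzQ, pow_zero, Ideal.one_eq_top]
    exact Submodule.mem_top

end

/-- The local ring at a closed point of a smooth integral curve is a discrete valuation ring. -/
theorem isDVR [IsIntegral C] [Smooth p] [QuasiCompact p] (hdim : topologicalKrullDim C = 1) (x : C)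
    (hx : IsClosed ({x} : Set C)) : IsDiscreteValuationRing (C.presheaf.stalk x) := by
  let _ : C.Over (Spec (CommRingCat.of k)) := ⟨p⟩
  have hs' : Smooth (C ↘ Spec (CommRingCat.of k)) := ‹Smooth p›
  have Cv : K707.Base.Crv k C := K707.Base.Crv.of_smooth hdim
  have := Cv.pid x
  have hne : x ≠ genericPoint C := by
    rintro rfl
    have h1 : closure ({genericPoint C} : Set C) = Set.univ := (genericPoint_spec C)
    rw [hx.closure_eq] at h1
    have h2 : Subsingleton C := ⟨fun a b => by
      have ha : a ∈ ({genericPoint C} : Set C) := h1 ▸ Set.mem_univ a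
      have hb : b ∈ ({genericPoint C} : Set C) := h1 ▸ Set.mem_univ b
      rw [Set.mem_singleton_iff] at ha hb
      rw [ha, hb]⟩
    have h3 : topologicalKrullDim C ≤ 0 := by
      refine le_trans ?_ (le_refl 0)
      have : Subsingleton (TopologicalSpace.IrreducibleCloseds C) := ⟨fun a b => by
        apply TopologicalSpace.IrreducibleCloseds.ext
        ext z
        obtain ⟨za, hza⟩ := a.2.1
        obtain ⟨zb, hzb⟩ := b.2.1
        rw [Subsingleton.elim za z] at hza
        rw [Subsingleton.elim zb z] at hzb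
        exact ⟨fun _ => hzb, fun _ => hza⟩⟩
      exact Order.krullDim_nonpos_of_subsingleton
    rw [hdim] at h3
    norm_num at h3
  have hnf : ¬ IsField (C.presheaf.stalk x) := by
    intro hf
    have hm0 := IsLocalRing.isField_iff_maximalIdeal_eq.mp hf
    have hbot : ∀ q : PrimeSpectrum (C.presheaf.stalk x), q.asIdeal = ⊥ := fun q =>
      le_bot_iff.mp ((IsLocalRing.le_maximalIdeal q.2.ne_top).trans hm0.le)
    have h1 : genericPoint C ∈ Set.range (C.fromSpecStalk x) := by
      rw [Scheme.range_fromSpecStalk]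
      exact genericPoint_specializes x
    obtain ⟨y, hy⟩ := h1
    have h2 : y = IsLocalRing.closedPoint (C.presheaf.stalk x) :=
      PrimeSpectrum.ext ((hbot y).trans (hbot _).symm)
    rw [h2, Scheme.fromSpecStalk_closedPoint] at hy
    exact hne hy
  exact { not_a_field' := IsLocalRing.isField_iff_maximalIdeal_eq.not.mp hnf }

end K554.PtCurve
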