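import Groth.Agent.VBCurve.K704.Sat
import Groth.Agent.CanPar.K204.Num
import Groth.Agent.CycB.Push
import Mathlib.AlgebraicGeometry.AlgClosed.Basic

/-!
# Saturations of line subsheaves of bundles of rank two on a curve over an algebraically closed field

`exists_div`: a nonzero map `a : L ⟶ A` of invertible modules on a curve has a divisor `∑ δ_p p`: a finite set `B` of
closed points, `a_p(L_p) ⊆ m_p^(δ p) A_p` and `deg A = deg L + ∑ δ p`.

`exists_sat`: the saturation of a nonzero map `lam : L ⟶ E` into a bundle of rank two.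
-/

set_option autoImplicit false
set_option linter.unusedSectionVars false
universe u

open CategoryTheory CategoryTheory.Limits AlgebraicGeometry TopologicalSpace Opposite Module

namespace K554.SatLine

open Groth.Agent Groth.Agent.CycB.StalkExact Groth.Agent.CycB.DegIntegral
open Groth.Agent.CanPar.K795.Iface K169.DegLat

section loc

variable {R : Type u} [CommRing R] [IsDomain R] [IsPrincipalIdealRing R] [IsLocalRing R] (K : Type u) [Field K]
  [Algebra R K] [IsFractionRing R K]

/-- In a discrete valuation ring (or a field) every nonzero element `c` lies in `m ^ ord c`. -/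
theorem mem_pow {c : R} (hc : c ≠ 0) (hR : ¬ IsField R) : ∃ n : ℕ, CycAlg.ordFrac R K (algebraMap R K c) = n ∧
    c ∈ (IsLocalRing.maximalIdeal R) ^ n ∧ (n = 0 → IsUnit c) := by
  have hdvr : IsDiscreteValuationRing R :=
    { not_a_field' := IsLocalRing.isField_iff_maximalIdeal_eq.not.mp hR }
  obtain ⟨ϖ, hϖ⟩ := IsDiscreteValuationRing.exists_irreducible R
  obtain ⟨n, u, hu⟩ := IsDiscreteValuationRing.eq_unit_mul_pow_irreducible hc hϖ
  refine ⟨n, ?_, ?_, ?_⟩
  · have hϖ0 : algebraMap R K ϖ ≠ 0 := by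
      rw [Ne, IsFractionRing.to_map_eq_zero_iff]; exact hϖ.ne_zero
    rw [hu, map_mul, map_pow, CycB.OrdFrac.ordFrac_mul R K ((u.isUnit.map _).ne_zero) (pow_ne_zero _ hϖ0),
      ordFrac_unit u.isUnit, CycB.OrdFrac.ordFrac_pow, ordFrac_irreducible hϖ]
    simp
  · rw [hu]
    refine Ideal.mul_mem_left _ _ (Ideal.pow_mem_pow ?_ n)
    exact (IsLocalRing.mem_maximalIdeal _).mpr hϖ.not_isUnit
  · rintro rfl
    rw [hu, pow_zero, mul_one]
    exact u.isUnit

end loc

variable {k : Type u} [Field k] {X : Scheme.{u}} [X.Over (Spec (CommRingCat.of k))]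
  [IsIntegral X] [IsProper (X ↘ Spec (CommRingCat.of k))]

/-- The residue degree of a closed point over an algebraically closed field is one. -/
theorem residueDegree_eq_one [IsAlgClosed k] (p : X ⟶ Spec (CommRingCat.of k))
    [LocallyOfFiniteType p] (x : X) (hx : IsClosed ({x} : Set X)) : p.residueDegree x = 1 := by
  let c : (Spec (CommRingCat.of k) : Scheme.{u}) := IsLocalRing.closedPoint k
  have h1 := CycB.Push.residueDegree_comp (pointOfClosedPoint p x hx) p c
  rw [pointOfClosedPoint_comp, Scheme.Hom.residueDegree_id] at h1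
  have h2 : (pointOfClosedPoint p x hx) c = x := pointOfClosedPoint_apply p x hx _
  rw [h2] at h1
  exact Nat.eq_one_of_mul_eq_one_right h1.symm

theorem mono_of_ne {L A : X.Modules} (C : K707.Base.Crv k X) (hL : PicF.IsInvertible L) (hA : FlatMod.IsFinLocFree A)
    (a : L ⟶ A) (ha : a ≠ 0) : Mono a := K704.Sat.mono_of_ne_zero C hL hA a ha

/-- A map of modules of rank one has a coefficient. -/
theorem exists_coef {x : X} {L A : X.Modules} (a : L ⟶ A) (b : Basis (Fin 1) (X.presheaf.stalk x) (A.presheaf.stalk x))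
    (l : L.presheaf.stalk x) : ∃ c : X.presheaf.stalk x, stalkLin a x l = c • b 0 :=
  ⟨b.repr (stalkLin a x l) 0, by
    conv_lhs => rw [← b.sum_repr (stalkLin a x l)]
    rw [Fin.sum_univ_one]⟩

/-- The divisor of a nonzero map of invertible modules. -/
theorem exists_div [IsAlgClosed k] (C : K707.Base.Crv k X) {L A : X.Modules} (hL : PicF.IsInvertible L)
    (hA : PicF.IsInvertible A) (a : L ⟶ A) (ha : a ≠ 0) :
    ∃ (B : Finset X) (δ : X → ℕ), (∀ p ∈ B, IsClosed ({p} : Set X)) ∧
      (∀ p ∈ B, ∀ l : L.presheaf.stalk p, stalkLin a p l ∈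
        (IsLocalRing.maximalIdeal (X.presheaf.stalk p)) ^ (δ p) • (⊤ : Submodule (X.presheaf.stalk p) (A.presheaf.stalk p))) ∧
      Curv2.deg k X A 1 = Curv2.deg k X L 1 + ∑ p ∈ B, (δ p : ℤ) := by
  classical
  have hL1 := K704.Sat.rank_of_isInvertible hL
  have hA1 := K704.Sat.rank_of_isInvertible hA
  have hm : Mono a := mono_of_ne C hL (K707.Base.isFinLocFree_of_rank hA1) a ha
  obtain ⟨hcl, hncl, -⟩ := K321.LatSum.points k X C.dim
  -- bases
  let β : Basis (Fin 1) (X.presheaf.stalk (genericPoint X)) (L.presheaf.stalk (genericPoint X)) :=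
    (K707.Base.exists_basis hL1 (genericPoint X)).some
  let bL : ∀ x : X, Basis (Fin 1) (X.presheaf.stalk x) (L.presheaf.stalk x) :=
    fun x => (K707.Base.exists_basis hL1 x).some
  let bA : ∀ x : X, Basis (Fin 1) (X.presheaf.stalk x) (A.presheaf.stalk x) :=
    fun x => (K707.Base.exists_basis hA1 x).some
  have hcf : ∀ x : X, ∃ c : X.presheaf.stalk x, stalkLin a x (bL x 0) = c • bA x 0 :=
    fun x => exists_coef a (bA x) (bL x 0)
  choose c hc using hcf
  have hinj : ∀ x : X, Function.Injective (stalkLin a x) := fun x => stalkLin_injective a x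
  have hc0 : ∀ x, c x ≠ 0 := fun x h0 => by
    have h1 := hc x
    rw [h0, zero_smul, ← map_zero (stalkLin a x)] at h1
    exact (bL x).ne_zero 0 (hinj x h1)
  -- the basis of the generic stalk of `A`
  have hη : ∃ r : X.presheaf.stalk (genericPoint X), stalkLin a (genericPoint X) (β 0) = r • bA (genericPoint X) 0 :=
    exists_coef a (bA (genericPoint X)) (β 0)
  obtain ⟨r, hr⟩ := hη
  have hr0 : r ≠ 0 := fun h0 => by
    rw [h0, zero_smul, ← map_zero (stalkLin a (genericPoint X))] at hr
    exact β.ne_zero 0 (hinj _ hr)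
  have hru : IsUnit r := by
    obtain ⟨s, hs⟩ := (K707.Base.isField_gen X).mul_inv_cancel hr0
    exact IsUnit.of_mul_eq_one _ hs
  let γ : Basis (Fin 1) (X.presheaf.stalk (genericPoint X)) (A.presheaf.stalk (genericPoint X)) :=
    (bA (genericPoint X)).isUnitSMul (w := fun _ => r) (fun _ => hru)
  have hγ : stalkLin a (genericPoint X) (β 0) = γ 0 := by
    rw [hr]
    exact ((bA (genericPoint X)).isUnitSMul_apply (fun _ => hru) 0).symm
  obtain ⟨T1, hT1, e1⟩ := K204.Num.deg_eq k C.dim C.pid 1 L hL1 β bL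
  obtain ⟨T2, hT2, e2⟩ := K204.Num.deg_eq k C.dim C.pid 1 A hA1 γ bA
  have hu : ∀ x, spe L x (bL x 0) = (β.repr (spe L x (bL x 0)) 0) • β 0 := fun x => by
    conv_lhs => rw [← β.sum_repr (spe L x (bL x 0))]
    rw [Fin.sum_univ_one]
  have hv : ∀ x, spe A x (bA x 0) = (γ.repr (spe A x (bA x 0)) 0) • γ 0 := fun x => by
    conv_lhs => rw [← γ.sum_repr (spe A x (bA x 0))]
    rw [Fin.sum_univ_one]
  have huv : ∀ x, β.repr (spe L x (bL x 0)) 0 =
      algebraMap (X.presheaf.stalk x) X.functionField (c x) * γ.repr (spe A x (bA x 0)) 0 := fun x => by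
    have h1 : stalkLin a (genericPoint X) (spe L x (bL x 0)) = spe A x (stalkLin a x (bL x 0)) :=
      stalkLin_stalkSpecializes a (genericPoint_specializes x) (bL x 0)
    rw [hc x, spe_smul] at h1
    have h2 := congrArg (fun z => γ.repr z 0) h1
    have h3 : γ.repr (stalkLin a (genericPoint X) (spe L x (bL x 0))) 0 = β.repr (spe L x (bL x 0)) 0 := by
      conv_lhs => rw [hu x, map_smul, hγ, map_smul, Basis.repr_self]
      simp
    simp only [h3, map_smul, Finsupp.smul_apply, smul_eq_mul] at h2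
    exact h2
  have hv0 : ∀ x, γ.repr (spe A x (bA x 0)) 0 ≠ 0 := fun x h0 => by
    have h1 := hv x
    rw [h0, zero_smul] at h1
    have h2 : spe A x 0 = 0 := map_zero (A.presheaf.stalkSpecializes (genericPoint_specializes x)).hom
    rw [← h2] at h1
    exact (bA x).ne_zero 0 (K321.LatRoof.spec_injective hA1 x h1)
  have halg0 : ∀ x, algebraMap (X.presheaf.stalk x) X.functionField (c x) ≠ 0 := fun x => by
    rw [Ne, IsFractionRing.to_map_eq_zero_iff]; exact hc0 x
  have hcfield : ∀ x, x ≠ genericPoint X → ¬ IsField (X.presheaf.stalk x) := by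
    intro x hx hf
    have hm0 := IsLocalRing.isField_iff_maximalIdeal_eq.mp hf
    have hbot : ∀ q : PrimeSpectrum (X.presheaf.stalk x), q.asIdeal = ⊥ := fun q =>
      le_bot_iff.mp ((IsLocalRing.le_maximalIdeal q.2.ne_top).trans hm0.le)
    have h1 : genericPoint X ∈ Set.range (X.fromSpecStalk x) := by
      rw [Scheme.range_fromSpecStalk]
      exact genericPoint_specializes x
    obtain ⟨y, hy⟩ := h1
    have h2 : y = IsLocalRing.closedPoint (X.presheaf.stalk x) :=
      PrimeSpectrum.ext ((hbot y).trans (hbot _).symm)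
    rw [h2, Scheme.fromSpecStalk_closedPoint] at hy
    exact hx hy
  have hδ : ∀ x, ∃ n : ℕ, x ≠ genericPoint X →
      (CycAlg.ordFrac (X.presheaf.stalk x) X.functionField (algebraMap _ _ (c x)) = n ∧
      c x ∈ (IsLocalRing.maximalIdeal (X.presheaf.stalk x)) ^ n) := fun x => by
    by_cases hx : x = genericPoint X
    · exact ⟨0, fun h => (h hx).elim⟩
    · have := C.pid x
      obtain ⟨n, h1, h2, -⟩ := mem_pow X.functionField (hc0 x) (hcfield x hx)
      exact ⟨n, fun _ => ⟨h1, h2⟩⟩
  choose δ hδ using hδ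
  have hne : ∀ x ∈ T1 ∪ T2, x ≠ genericPoint X := by
    rintro x hx rfl
    rcases Finset.mem_union.mp hx with h | h
    · exact hT1 h
    · exact hT2 h
  refine ⟨T1 ∪ T2, δ, fun p hp => hcl p (hne p hp), fun p hp l => ?_, ?_⟩
  · have h1 : l = (bL p).repr l 0 • bL p 0 := by
      conv_lhs => rw [← (bL p).sum_repr l]
      rw [Fin.sum_univ_one]
    rw [h1, map_smul, hc p]
    exact Submodule.smul_mem _ _ (Submodule.smul_mem_smul (hδ p (hne p hp)).2 trivial)
  · rw [e1 (T1 ∪ T2) Finset.subset_union_left (fun h => hne _ h rfl),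
      e2 (T1 ∪ T2) Finset.subset_union_right (fun h => hne _ h rfl), ← sub_eq_iff_eq_add', neg_sub_neg,
      ← Finset.sum_sub_distrib]
    refine Finset.sum_congr rfl fun x hx => ?_
    rw [residueDegree_eq_one (X ↘ Spec (CommRingCat.of k)) x (hcl x (hne x hx))]
    have hd1 : (β.toMatrix fun j => spe L x (bL x j)).det = β.repr (spe L x (bL x 0)) 0 := by
      rw [Matrix.det_unique]
      rfl
    have hd2 : (γ.toMatrix fun j => spe A x (bA x j)).det = γ.repr (spe A x (bA x 0)) 0 := by
      rw [Matrix.det_unique]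
      rfl
    have := C.pid x
    rw [hd1, hd2, huv x]
    have h3 := CycB.OrdFrac.ordFrac_mul (X.presheaf.stalk x) X.functionField (halg0 x) (hv0 x)
    rw [h3, (hδ x (hne x hx)).1]
    push_cast
    ring

/-- **The saturation** of a nonzero map from an invertible module to a bundle of rank two, with the divisor of the
quotient. -/
theorem exists_sat [IsAlgClosed k] (C : K707.Base.Crv k X) {L E : X.Modules} (hL : PicF.IsInvertible L)
    (hE : FlatMod.IsFinLocFreeOfRank 2 E) (lam : L ⟶ E) (hlam : lam ≠ 0) :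
    ∃ (A Q : X.Modules) (j : A ⟶ E) (q : E ⟶ Q) (w : j ≫ q = 0) (a : L ⟶ A) (B : Finset X) (δ : X → ℕ),
      (ShortComplex.mk j q w).ShortExact ∧ PicF.IsInvertible A ∧ PicF.IsInvertible Q ∧ a ≫ j = lam ∧
      (∀ p ∈ B, IsClosed ({p} : Set X)) ∧
      (∀ p ∈ B, ∀ l : L.presheaf.stalk p, stalkLin lam p l ∈
        (IsLocalRing.maximalIdeal (X.presheaf.stalk p)) ^ (δ p) • (⊤ : Submodule (X.presheaf.stalk p) (E.presheaf.stalk p))) ∧
      Curv2.deg k X A 1 = Curv2.deg k X L 1 + ∑ p ∈ B, (δ p : ℤ) ∧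
      Curv2.deg k X E 2 = Curv2.deg k X A 1 + Curv2.deg k X Q 1 := by
  obtain ⟨A, Q, j, q, w, a, hS, hA, hQ, haj⟩ := K704.Sat.exists_sat C hL hE lam hlam
  have ha : a ≠ 0 := by
    rintro rfl
    exact hlam (by rw [← haj, zero_comp])
  obtain ⟨B, δ, h1, h2, h3⟩ := exists_div C hL hA a ha
  refine ⟨A, Q, j, q, w, a, B, δ, hS, hA, hQ, haj, h1, fun p hp l => ?_, h3, ?_⟩
  · have h4 : stalkLin lam p l = stalkLin j p (stalkLin a p l) := by
      rw [← haj, stalkLin_comp]
      rfl
    rw [h4]
    have h5 := Submodule.mem_map_of_mem (f := stalkLin j p) (h2 p hp l)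
    rw [Submodule.map_smul''] at h5
    exact Submodule.smul_mono le_rfl le_top h5
  · have hA1 := K704.Sat.rank_of_isInvertible hA
    have hQ1 := K704.Sat.rank_of_isInvertible hQ
    have h6 := K707.Deg.dg_add k (ShortComplex.mk j q w) hS (K704.Sat.coh_of_isInvertible hA)
      (K707.Base.isCoh_of_rank hE) (K704.Sat.coh_of_isInvertible hQ)
    rw [K707.Deg.dg_of_rank k hE, K707.Deg.dg_of_rank k hA1, K707.Deg.dg_of_rank k hQ1] at h6
    exact h6

end K554.SatLine
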